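import Cfsg.Agent.Lib.BoundedPres.U3.Model

/-!
# Two relations close the Bruhat cells of `SU₃(q)`

A group over `SU₃(q)` whose Borel part is not larger than the true one, with the relations for `t h t`,
`t z t` and `t u t`, is not larger than `SU₃(q)`.  A non-central class of unipotents is named by the
class of `b / (ω - σ ω)` modulo the fixed field; multiplying by the centre moves it one step along.
-/

set_option autoImplicit false

namespace Cfsg.Agent.BoundedPres.U3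

open Matrix
open Cfsg.Agent.Forms (qEnd qEnd_apply qEnd_qEnd)

variable {F : Type*} [Field F] [Fintype F] {q : ℕ}

/-- A double coset of `t`. -/
def InCell {G : Type*} [Group G] (H : Subgroup G) (t g : G) : Prop :=
  ∃ c1 ∈ H, ∃ c2 ∈ H, g = c1 * t * c2

/-- A group over `SU₃(q)` with the relations of the Borel group and of the Weyl element. -/
structure Abs (C : Ctx F q) (G : Type) [Group G] where
  π : G →* ↥(Cfsg.SU 3 F q)
  ω : Fˣ
  hω : ∀ c : Fˣ, c ∈ Subgroup.zpowers ω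
  u : G
  h : G
  t : G
  z : G
  x0 : C.Par
  z0 : C.Par
  πu : π u = C.uM x0
  πh : π h = C.hM ω
  πt : π t = C.tM
  πz : π z = C.uM z0
  hx0 : x0.1 = (1, -(ω : F) / C.skw ω)
  hz0 : z0.1.1 = 0
  hz0' : z0.1.2 ≠ 0
  gen : Subgroup.closure ({u, h, t} : Set G) = ⊤
  zmem : z ∈ Subgroup.closure ({u, h} : Set G)
  surj : ∀ x ∈ C.borel, ∃ c ∈ Subgroup.closure ({u, h} : Set G), π c = x
  fin : Finite (Subgroup.closure ({u, h} : Set G))
  card_le : Nat.card (Subgroup.closure ({u, h} : Set G)) ≤ Nat.card C.borel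
  t2 : t * t = 1
  tht : t * h * t * h ^ q = 1
  bnu : InCell (Subgroup.closure {u, h}) t (t * u * t)
  bnz : InCell (Subgroup.closure {u, h}) t (t * z * t)

namespace Abs

variable {C : Ctx F q} {G : Type} [Group G] (A : Abs C G)

set_option quotPrecheck false in
local notation "σ" => qEnd (Ctx.card C)

/-- The Borel part. -/
def H : Subgroup G := Subgroup.closure {A.u, A.h}

theorem u_mem : A.u ∈ A.H := Subgroup.subset_closure (by simp)

theorem h_mem : A.h ∈ A.H := Subgroup.subset_closure (by simp)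

theorem π_mem {c : G} (hc : c ∈ A.H) : A.π c ∈ C.borel := by
  have : A.H ≤ C.borel.comap A.π := by
    rw [H, Subgroup.closure_le]
    rintro x (rfl | rfl)
    · show A.π _ ∈ C.borel
      rw [A.πu]; exact C.uM_mem _
    · show A.π _ ∈ C.borel
      rw [A.πh]; exact C.hM_mem _
  exact this hc

theorem π_inj {c d : G} (hc : c ∈ A.H) (hd : d ∈ A.H) (e : A.π c = A.π d) : c = d := by
  have : Finite A.H := A.fin
  let f : A.H → C.borel := fun x => ⟨A.π x, A.π_mem x.2⟩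
  have hsurj : Function.Surjective f := fun ⟨y, hy⟩ => by
    obtain ⟨x, hx, rfl⟩ := A.surj y hy
    exact ⟨⟨x, hx⟩, rfl⟩
  exact congrArg Subtype.val
    ((hsurj.bijective_of_nat_card_le A.card_le).1 (a₁ := ⟨c, hc⟩) (a₂ := ⟨d, hd⟩) (Subtype.ext e))

theorem t_inv : A.t⁻¹ = A.t := inv_eq_of_mul_eq_one_right A.t2

theorem tt_cancel (g : G) : A.t * (A.t * g) = g := by rw [← mul_assoc, A.t2, one_mul]

theorem t_pow (i : ℤ) : A.t * A.h ^ i * A.t = A.h ^ (-((q : ℤ) * i)) := by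
  have e : A.t * A.h * A.t⁻¹ = (A.h ^ q)⁻¹ := by rw [A.t_inv]; exact eq_inv_of_mul_eq_one_left A.tht
  have := conj_zpow (a := A.t) (b := A.h) (i := i)
  rw [e, A.t_inv, _root_.inv_zpow, ← zpow_natCast, ← _root_.zpow_mul, ← _root_.zpow_neg] at this
  exact this.symm

theorem hpow_t (i : ℤ) : A.h ^ i * A.t = A.t * A.h ^ (-((q : ℤ) * i)) := by
  rw [← A.t_pow, ← mul_assoc, ← mul_assoc, A.t2, one_mul]

theorem exists_hpow (k : Fˣ) : ∃ i : ℤ, A.π (A.h ^ i) = C.hM k := by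
  obtain ⟨i, hi⟩ := Subgroup.mem_zpowers_iff.1 (A.hω k)
  exact ⟨i, by rw [map_zpow, A.πh, ← map_zpow, hi]⟩

/-- The relation `t x t ∈ B t B` holds above `x`. -/
def Good (x : ↥(Cfsg.SU 3 F q)) : Prop :=
  ∀ c ∈ A.H, A.π c = x → InCell A.H A.t (A.t * c * A.t)

theorem good_of {c : G} (hc : c ∈ A.H) (h : InCell A.H A.t (A.t * c * A.t)) : A.Good (A.π c) :=
  fun d hd e => by rw [A.π_inj hd hc e]; exact h

theorem good_u0 : A.Good (C.uM A.x0) := A.πu ▸ A.good_of A.u_mem A.bnu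

theorem good_z0 : A.Good (C.uM A.z0) := A.πz ▸ A.good_of A.zmem A.bnz

theorem cell_torus {c : G} (i j : ℤ) (h : InCell A.H A.t (A.t * c * A.t)) :
    InCell A.H A.t (A.t * (A.h ^ i * c * A.h ^ j) * A.t) := by
  obtain ⟨c1, h1, c2, h2, e⟩ := h
  refine ⟨A.h ^ (-((q : ℤ) * i)) * c1, mul_mem (zpow_mem A.h_mem _) h1,
    c2 * A.h ^ (-((q : ℤ) * j)), mul_mem h2 (zpow_mem A.h_mem _), ?_⟩
  calc A.t * (A.h ^ i * c * A.h ^ j) * A.t
      = (A.t * A.h ^ i * A.t) * (A.t⁻¹ * c * A.t⁻¹) * (A.t * A.h ^ j * A.t) := by group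
    _ = A.h ^ (-((q : ℤ) * i)) * (A.t * c * A.t) * A.h ^ (-((q : ℤ) * j)) := by
      rw [A.t_pow, A.t_pow, A.t_inv]
    _ = _ := by rw [e]; group

theorem good_torus {x : ↥(Cfsg.SU 3 F q)} (hx : x ∈ C.borel) (h : A.Good x) (k l : Fˣ) :
    A.Good (C.hM k * x * C.hM l) := by
  obtain ⟨c, hc, rfl⟩ := A.surj x hx
  obtain ⟨i, hi⟩ := A.exists_hpow k
  obtain ⟨j, hj⟩ := A.exists_hpow l
  rw [← hi, ← hj, ← map_mul, ← map_mul]
  exact A.good_of (mul_mem (mul_mem (zpow_mem A.h_mem i) hc) (zpow_mem A.h_mem j))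
    (A.cell_torus i j (h c hc rfl))

theorem good_hact {x : C.Par} (h : A.Good (C.uM x)) (k : Fˣ) : A.Good (C.uM (C.hact k x)) := by
  have := A.good_torus (C.uM_mem x) h k k⁻¹
  rwa [map_inv, C.hM_conj] at this

/-- The image of the first line. -/
theorem borel_vec {g : ↥(Cfsg.SU 3 F q)} (hg : g ∈ C.borel) :
    C.co g *ᵥ ![1, 0, 0] = ![C.co g 0 0, 0, 0] := by
  obtain ⟨h1, h2⟩ := (C.mem_borel_iff g).1 hg
  rw [Ctx.mulVec_three]
  funext i
  fin_cases i <;> simp [h1, h2]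

/-- The first factor of `t x t`. -/
theorem first {x : C.Par} {c : G} (hcx : A.π c = C.uM x) (h : InCell A.H A.t (A.t * c * A.t)) :
    x.1.2 ≠ 0 ∧ ∃ y : C.Par, y.1 = (-x.1.1 / σ x.1.2, 1 / x.1.2) ∧
      ∃ c1 ∈ A.H, ∃ c2 ∈ A.H, A.π c1 = C.uM y ∧ A.t * c * A.t = c1 * A.t * c2 := by
  obtain ⟨c1, h1, c2, h2, e⟩ := h
  obtain ⟨y, k, hk⟩ := C.borel_decomp (A.π_mem h1)
  obtain ⟨i, hi⟩ := A.exists_hpow k
  set d1 := c1 * (A.h ^ i)⁻¹ with hd1
  set d2 := A.h ^ (-((q : ℤ) * i)) * c2 with hd2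
  have hd1m : d1 ∈ A.H := mul_mem h1 (inv_mem (zpow_mem A.h_mem _))
  have hd2m : d2 ∈ A.H := mul_mem (zpow_mem A.h_mem _) h2
  have he : A.t * c * A.t = d1 * A.t * d2 := by
    calc A.t * c * A.t = c1 * (A.h ^ i)⁻¹ * (A.h ^ i * A.t) * c2 := by rw [e]; group
      _ = d1 * A.t * d2 := by rw [A.hpow_t, hd1, hd2]; group
  have hπ1 : A.π d1 = C.uM y := by rw [hd1, map_mul, map_inv, hk, hi, mul_inv_cancel_right]
  have hv := congrArg (fun g => C.co (A.π g) *ᵥ ![1, 0, 0]) he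
  simp only [map_mul, A.πt, hcx, hπ1, C.co_mul_vec, borel_vec (A.π_mem hd2m), C.co_tM, C.co_uM,
    Ctx.mulVec_three] at hv
  simp [Ctx.tMat, Ctx.uMat] at hv
  obtain ⟨e0, e1, e2⟩ := hv
  have hb : x.1.2 ≠ 0 := fun hb => by
    rw [hb] at e2
    rw [← e2] at e0
    simp at e0
  have hb' : σ x.1.2 ≠ 0 := (map_ne_zero σ).2 hb
  rw [← e2] at e0 e1
  refine ⟨hb, y, Prod.ext ?_ (eq_div_of_mul_eq hb e0.symm), d1, hd1m, d2, hd2m, hπ1, he⟩
  have := congrArg σ e1
  simp only [map_neg, map_mul, qEnd_qEnd C.card] at this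
  rw [eq_div_iff hb']
  linear_combination this

theorem good_inv {x : C.Par} (h : A.Good (C.uM x)) :
    x.1.2 ≠ 0 ∧ ∃ y : C.Par, y.1 = (x.1.1 / σ x.1.2, 1 / σ x.1.2) ∧ A.Good (C.uM y) := by
  obtain ⟨c, hc, hcx⟩ := A.surj _ (C.uM_mem x)
  obtain ⟨hb, y, hy, c1, h1, c2, h2, hπ1, e⟩ := A.first hcx (h c hc hcx)
  refine ⟨hb, C.pinv y, ?_, ?_⟩
  · show (-y.1.1, σ y.1.2) = _
    rw [hy]
    simp [neg_div]
  · rw [← C.uM_inv, ← hπ1, ← map_inv]
    refine A.good_of (inv_mem h1) ⟨c2, h2, c⁻¹, inv_mem hc, ?_⟩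
    have : c1⁻¹ = A.t * c2 * A.t * c⁻¹ * A.t := by
      calc c1⁻¹ = c1⁻¹ * (A.t * c * A.t) * (A.t⁻¹ * c⁻¹ * A.t⁻¹) := by group
        _ = A.t * c2 * A.t⁻¹ * c⁻¹ * A.t⁻¹ := by rw [e]; group
        _ = _ := by rw [A.t_inv]
    rw [this]
    simp only [mul_assoc, A.tt_cancel, A.t2, mul_one]

/-- Multiplying by the centre. -/
theorem good_mul {x ζ m : C.Par} (hζ : ζ.1.1 = 0) (hx : A.Good (C.uM x)) (hz : A.Good (C.uM ζ))
    (hm : m.1 = (-x.1.1 * x.1.2 / σ x.1.2, σ x.1.2 * (x.1.2 + ζ.1.2) / ζ.1.2))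
    (hgm : A.Good (C.uM m)) : A.Good (C.uM (C.pmul x ζ)) := by
  obtain ⟨c, hc, hcx⟩ := A.surj _ (C.uM_mem x)
  obtain ⟨c', hc', hcx'⟩ := A.surj _ (C.uM_mem ζ)
  obtain ⟨hb, y, hy, c1, h1, c2, h2, hπ1, e⟩ := A.first hcx (hx c hc hcx)
  obtain ⟨hzb, -, -, c1', h1', c2', h2', -, e'⟩ := A.first hcx' (hz c' hc' hcx')
  set d := c2 * c1' with hd
  have hdm : d ∈ A.H := mul_mem h2 h1'
  obtain ⟨n, k, hk⟩ := C.borel_decomp (A.π_mem hdm)
  have he : A.t * (c * c') * A.t = c1 * (A.t * d * A.t) * c2' := by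
    calc A.t * (c * c') * A.t = (A.t * c * A.t) * (A.t⁻¹ * A.t⁻¹) * (A.t * c' * A.t) := by group
      _ = (c1 * A.t * c2) * (c1' * A.t * c2') := by rw [A.t_inv, A.t2, mul_one, e, e']
      _ = _ := by rw [hd]; group
  have hσb : σ x.1.2 ≠ 0 := (map_ne_zero σ).2 hb
  have hkσ : σ (k : F) ≠ 0 := (map_ne_zero σ).2 k.ne_zero
  have hn : n = m := by
    have hv := congrArg (fun g => C.co (A.π g) *ᵥ ![1, 0, 0]) he
    simp only [map_mul, A.πt, hcx, hcx', hk, hπ1, C.uM_mul, C.co_mul_vec,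
      borel_vec (A.π_mem h2'), C.co_tM, C.co_uM, C.co_hM, Ctx.mulVec_three] at hv
    simp [Ctx.tMat, Ctx.uMat, Ctx.hMat, Ctx.pmul, hy, hζ, map_neg, map_div₀, qEnd_qEnd C.card] at hv
    set L := (σ (k : F))⁻¹ * C.co (A.π c2') 0 0 with hL
    obtain ⟨E0, E1, E2⟩ := hv
    have hx' := x.2
    have E1' : L * σ n.1.1 = -(σ x.1.1 * ζ.1.2) / x.1.2 := by
      field_simp at E1 ⊢
      linear_combination -E1 + σ x.1.1 * E2
    have hLv : L = ζ.1.2 / σ x.1.2 := by
      field_simp at E0 E1' ⊢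
      have : L * (σ x.1.2 * x.1.2) * 1 = ζ.1.2 * x.1.2 := by
        linear_combination -E0 + (x.1.1) * E1' + σ x.1.2 * E2 - ζ.1.2 * hx'
      exact mul_right_cancel₀ hb (by linear_combination this)
    have hL0 : L ≠ 0 := by rw [hLv]; exact div_ne_zero hzb hσb
    apply Subtype.ext
    rw [hm]
    refine Prod.ext ?_ ?_
    · show n.1.1 = _
      have := congrArg σ E1'
      simp only [map_mul, map_div₀, map_neg, qEnd_qEnd C.card, hLv] at this
      field_simp at this ⊢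
      have hz' := ζ.2
      rw [hζ] at hz'
      have hzs : σ ζ.1.2 = -ζ.1.2 := by linear_combination hz'
      rw [hzs] at this
      apply mul_left_cancel₀ hzb
      linear_combination -this
    · show n.1.2 = _
      have : L * n.1.2 = x.1.2 + ζ.1.2 := by linear_combination -E2
      rw [hLv] at this
      field_simp at this ⊢
      linear_combination this
  subst hn
  obtain ⟨i, hi⟩ := A.exists_hpow k
  obtain ⟨cn, hcn, hπn⟩ := A.surj _ (C.uM_mem n)
  have hdn : d = A.h ^ (0 : ℤ) * cn * A.h ^ i := A.π_inj hdm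
    (mul_mem (mul_mem (zpow_mem A.h_mem _) hcn) (zpow_mem A.h_mem _))
    (by rw [hk, map_mul, map_mul, zpow_zero, map_one, one_mul, hπn, hi])
  obtain ⟨d1, hd1, d2, hd2, ed⟩ := hdn ▸ A.cell_torus 0 i (hgm cn hcn hπn)
  rw [← C.uM_mul, ← hcx, ← hcx', ← map_mul]
  exact A.good_of (mul_mem hc hc') ⟨c1 * d1, mul_mem h1 hd1, d2 * c2', mul_mem hd2 h2',
    by rw [he, ed]; group⟩

/-! ### All unipotents -/

theorem good_centre {x : C.Par} (ha : x.1.1 = 0) (hb : x.1.2 ≠ 0) : A.Good (C.uM x) := by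
  have h1 := x.2
  have h2 := A.z0.2
  rw [ha] at h1
  rw [A.hz0] at h2
  have hr : σ (x.1.2 / A.z0.1.2) = x.1.2 / A.z0.1.2 := by
    rw [map_div₀, show σ x.1.2 = -x.1.2 by linear_combination h1,
      show σ A.z0.1.2 = -A.z0.1.2 by linear_combination h2, neg_div_neg_eq]
  obtain ⟨n, hn⟩ := C.exists_nu_pow A.hω hr (div_ne_zero hb A.hz0')
  have := A.good_hact A.good_z0 (A.ω ^ n)
  obtain ⟨e1, e2⟩ := C.hact_pow A.ω n A.z0
  convert this using 2
  refine Subtype.ext (Prod.ext ?_ ?_)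
  · rw [e1, A.hz0, mul_zero, ha]
  · rw [e2, ← hn, div_mul_cancel₀ _ A.hz0']

/-- The unipotent of the first class with a given first coordinate. -/
def p1 (a : F) : C.Par :=
  ⟨(a, -(a * σ a) * (A.ω : F) / C.skw A.ω), by
    have hs := C.skw_ne A.hω
    simp only [map_div₀, map_mul, map_neg, qEnd_qEnd C.card, C.σ_skw]
    field_simp
    rw [Ctx.skw]
    ring⟩

theorem good_p1 (a : F) (ha : a ≠ 0) : A.Good (C.uM (A.p1 a)) := by
  have hs := C.skw_ne A.hω
  have hω0 := A.ω.ne_zero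
  have hσω : σ (A.ω : F) ≠ 0 := (map_ne_zero σ).2 hω0
  have hmul : ∀ a x : F, x ≠ 0 → (σ x = x ∨ σ x = -x) → A.Good (C.uM (A.p1 a)) →
      A.Good (C.uM (A.p1 (x * a))) := by
    intro a x hx hcase hg
    obtain ⟨k, hk⟩ : ∃ k : Fˣ, (k : F) * k / σ k = x := by
      rcases hcase with h | h
      · exact ⟨Units.mk0 x hx, by simp [h, hx]⟩
      · refine ⟨Units.mk0 (-x) (neg_ne_zero.2 hx), ?_⟩
        simp [h, hx]
    have := A.good_hact hg k
    convert this using 2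
    have hk0 := k.ne_zero
    have hkσ : σ (k : F) ≠ 0 := (map_ne_zero σ).2 hk0
    refine Subtype.ext (Prod.ext ?_ ?_)
    · simp [p1, Ctx.hact, hk]
    · simp only [p1, Ctx.hact, ← hk, map_mul, map_div₀, qEnd_qEnd C.card]
      field_simp
  have hstep : ∀ a : F, a ≠ 0 → A.Good (C.uM (A.p1 a)) → A.Good (C.uM (A.p1 (a / σ A.ω))) := by
    intro a ha hg
    have haσ : σ a ≠ 0 := (map_ne_zero σ).2 ha
    obtain ⟨-, y, hy, hgy⟩ := A.good_inv hg
    have hy' : y = A.p1 (a * C.skw A.ω / (a * σ a * σ (A.ω : F))) := by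
      apply Subtype.ext
      rw [hy]
      refine Prod.ext ?_ ?_ <;>
        simp only [p1, map_div₀, map_mul, map_neg, qEnd_qEnd C.card, C.σ_skw] <;> field_simp
    rw [hy'] at hgy
    have := hmul _ (a * σ a / C.skw A.ω) (div_ne_zero (mul_ne_zero ha haσ) hs)
      (Or.inr (by rw [map_div₀, map_mul, qEnd_qEnd C.card, C.σ_skw, div_neg, mul_comm])) hgy
    convert this using 3
    field_simp
  have hall : ∀ n : ℕ, A.Good (C.uM (A.p1 (σ ((A.ω : F) ^ n))⁻¹)) := by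
    intro n
    induction n with
    | zero =>
      have : A.p1 (σ ((A.ω : F) ^ 0))⁻¹ = A.x0 := by
        apply Subtype.ext
        rw [A.hx0]
        simp [p1]
      rw [this]; exact A.good_u0
    | succ n ih =>
      have := hstep _ (inv_ne_zero ((map_ne_zero σ).2 (pow_ne_zero _ hω0))) ih
      convert this using 3
      rw [pow_succ, map_mul, mul_inv, div_eq_mul_inv]
  obtain ⟨n, hn⟩ := Ctx.exists_pow A.hω (Units.mk0 _ (inv_ne_zero ((map_ne_zero σ).2 ha)))
  have hn' : (σ a)⁻¹ = (A.ω : F) ^ n := by simpa using congrArg Units.val hn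
  have := hall n
  rwa [← hn', map_inv₀, qEnd_qEnd C.card, inv_inv] at this

theorem good_class (n : ℕ) (hn : n + 1 ≤ q) : ∀ x : C.Par, x.1.1 ≠ 0 →
    (∃ l, σ l = l ∧ x.1.2 = l * C.skw A.ω * (A.ω : F) ^ (n + 1)) → A.Good (C.uM x) := by
  have hs := C.skw_ne A.hω
  induction n with
  | zero =>
    rintro x ha ⟨l, hl, hb⟩
    have hx := x.2
    rw [hb, zero_add, pow_one, map_mul, map_mul, hl, C.σ_skw] at hx
    have he : x = A.p1 x.1.1 := by
      refine Subtype.ext (Prod.ext rfl ?_)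
      show x.1.2 = -(x.1.1 * σ x.1.1) * (A.ω : F) / C.skw A.ω
      rw [hb, zero_add, pow_one, eq_div_iff hs]
      have e : l * C.skw A.ω * C.skw A.ω = -(x.1.1 * σ x.1.1) := by
        nth_rewrite 2 [Ctx.skw]
        linear_combination hx
      rw [← e]; ring
    rw [he]
    exact A.good_p1 _ ha
  | succ n ih =>
    rintro x ha ⟨l, hl, hb⟩
    have hl0 : l ≠ 0 := fun h0 => by
      have := x.2
      rw [hb, h0] at this
      simp at this
      exact ha this
    set a := x.1.1 with hadef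
    set b := (A.p1 a).1.2 with hbdef
    have hσa : σ a ≠ 0 := (map_ne_zero σ).2 ha
    have hb0 : b ≠ 0 := div_ne_zero (mul_ne_zero (neg_ne_zero.2 (mul_ne_zero ha hσa)) A.ω.ne_zero) hs
    have hζc : (x.1.2 - b) + σ (x.1.2 - b) + (0 : F) * σ 0 = 0 := by
      have h1 := x.2
      have h2 := (A.p1 a).2
      rw [show (A.p1 a).1.1 = a from rfl] at h2
      rw [map_sub]
      linear_combination h1 - h2
    let ζ : C.Par := ⟨(0, x.1.2 - b), hζc⟩
    have hz0 : x.1.2 - b ≠ 0 := by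
      intro h0
      apply C.pow_ne_fixed A.hω (n := n + 1) (by omega) (by omega)
      have h1 : (A.ω : F) ^ (n + 1) = -(a * σ a) / (l * C.skw A.ω * C.skw A.ω) := by
        rw [sub_eq_zero, hb, hbdef] at h0
        simp only [p1] at h0
        rw [eq_div_iff (mul_ne_zero (mul_ne_zero hl0 hs) hs)]
        apply mul_left_cancel₀ A.ω.ne_zero
        rw [eq_div_iff hs, pow_succ'] at h0
        linear_combination h0
      rw [h1, map_div₀, map_neg, map_mul, map_mul, map_mul, qEnd_qEnd C.card, hl, C.σ_skw]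
      ring
    have hgz : A.Good (C.uM ζ) := A.good_centre (x := ζ) rfl hz0
    have hσb : σ b ≠ 0 := (map_ne_zero σ).2 hb0
    have hmc : σ b * (b + (x.1.2 - b)) / (x.1.2 - b) + σ (σ b * (b + (x.1.2 - b)) / (x.1.2 - b)) +
        (-a * b / σ b) * σ (-a * b / σ b) = 0 := by
      have h1 := x.2
      have h2 := (A.p1 a).2
      rw [show (A.p1 a).1.1 = a from rfl, ← hbdef] at h2
      have h3 : σ x.1.2 = -x.1.2 - a * σ a := by linear_combination h1
      have h4 : σ b = -b - a * σ a := by linear_combination h2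
      have hzs : σ (x.1.2 - b) = -(x.1.2 - b) := by rw [map_sub, h3, h4]; ring
      simp only [map_div₀, map_mul, map_neg, map_add, qEnd_qEnd C.card, hzs]
      field_simp
      linear_combination (x.1.2 - b) * h2
    let m : C.Par := ⟨(-a * b / σ b, σ b * (b + (x.1.2 - b)) / (x.1.2 - b)), hmc⟩
    have hgm : A.Good (C.uM m) := by
      refine ih (by omega) m ?_ ⟨a * σ a * l * C.nu A.ω / ((x.1.2 - b) * C.skw A.ω), ?_, ?_⟩
      · exact div_ne_zero (mul_ne_zero (neg_ne_zero.2 ha) hb0) hσb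
      · have hzs : σ (x.1.2 - b) = -(x.1.2 - b) := by
          have := hζc
          rw [zero_mul, add_zero] at this
          linear_combination this
        rw [map_div₀, map_mul, map_mul, map_mul, map_mul, qEnd_qEnd C.card, hl, C.σ_nu, hzs, C.σ_skw]
        field_simp
      · show σ b * (b + (x.1.2 - b)) / (x.1.2 - b) = _
        rw [add_sub_cancel, hbdef]
        simp only [p1, map_div₀, map_mul, map_neg, qEnd_qEnd C.card, C.σ_skw]
        rw [hb, Ctx.nu]
        field_simp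
        ring
    have := A.good_mul (x := A.p1 a) (ζ := ζ) (m := m) rfl (A.good_p1 a ha) hgz rfl hgm
    convert this using 2
    refine Subtype.ext (Prod.ext ?_ ?_)
    · show a = a + 0
      rw [add_zero]
    · show x.1.2 = b + (x.1.2 - b) - a * σ 0
      rw [map_zero]; ring

theorem good_all {x : C.Par} (hx : x ≠ C.pzero) : A.Good (C.uM x) := by
  have hs := C.skw_ne A.hω
  by_cases ha : x.1.1 = 0
  · refine A.good_centre ha fun hb => hx (Subtype.ext (Prod.ext ha hb))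
  have hxc := x.2
  have hb : x.1.2 ≠ 0 := fun hb => by
    rw [hb] at hxc
    simp at hxc
    exact ha hxc
  obtain ⟨n, hn⟩ := Ctx.exists_pow A.hω (Units.mk0 _ (div_ne_zero hb hs))
  have hn' : x.1.2 / C.skw A.ω = (A.ω : F) ^ n := by simpa using congrArg Units.val hn
  rw [div_eq_iff hs] at hn'
  obtain ⟨j, hj⟩ : ∃ j, n % (q + 1) = j + 1 := by
    refine ⟨n % (q + 1) - 1, (Nat.sub_add_cancel (Nat.one_le_iff_ne_zero.2 fun h0 => ha ?_)).symm⟩
    have hf := (C.fixed_iff A.hω n).2 (Nat.dvd_of_mod_eq_zero h0)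
    rw [hn', map_mul, hf, C.σ_skw] at hxc
    have : x.1.1 * σ x.1.1 = 0 := by linear_combination hxc
    simpa using this
  refine A.good_class j (by have := Nat.mod_lt n (show q + 1 > 0 by omega); omega) x ha
    ⟨C.nu A.ω ^ (n / (q + 1)), by rw [map_pow, C.σ_nu], ?_⟩
  rw [hn', C.nu_eq, Units.val_pow_eq_pow_val, ← pow_mul, ← hj]
  conv_lhs => rw [← Nat.div_add_mod n (q + 1), pow_add]
  ring

/-! ### The bound -/

include A in
theorem bound : Finite G ∧ Nat.card G ≤ Nat.card ↥(Cfsg.SU 3 F q) := by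
  classical
  have hfinH : Finite A.H := A.fin
  choose ι hιm hιπ using fun x : C.Par => A.surj _ (C.uM_mem x)
  set S : Set G := {g | g ∈ A.H ∨ InCell A.H A.t g} with hS
  have hH : ∀ c ∈ A.H, ∀ s ∈ S, c * s ∈ S := by
    rintro c hc s (hs | ⟨c1, h1, c2, h2, rfl⟩)
    · exact Or.inl (mul_mem hc hs)
    · exact Or.inr ⟨c * c1, mul_mem hc h1, c2, h2, by group⟩
  have hsplit : ∀ c1 ∈ A.H, ∃ x, ∃ i : ℤ, c1 = ι x * A.h ^ i := by
    intro c1 h1
    obtain ⟨x, k, hk⟩ := C.borel_decomp (A.π_mem h1)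
    obtain ⟨i, hi⟩ := A.exists_hpow k
    refine ⟨x, i, A.π_inj h1 (mul_mem (hιm x) (zpow_mem A.h_mem _)) ?_⟩
    rw [hk, map_mul, hιπ, hi]
  have ht : ∀ s ∈ S, A.t * s ∈ S := by
    rintro s (hs | ⟨c1, h1, c2, h2, rfl⟩)
    · exact Or.inr ⟨1, one_mem _, s, hs, by rw [one_mul]⟩
    obtain ⟨x, i, rfl⟩ := hsplit c1 h1
    by_cases hx : x = C.pzero
    · have : ι x = 1 := A.π_inj (hιm x) (one_mem _) (by rw [hιπ, hx, C.uM_zero, map_one])
      refine Or.inl ?_
      rw [this, one_mul, show A.t * (A.h ^ i * A.t * c2) = A.t * A.h ^ i * A.t * c2 by group, A.t_pow]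
      exact mul_mem (zpow_mem A.h_mem _) h2
    · obtain ⟨d1, hd1, d2, hd2, e⟩ := A.good_all hx (ι x) (hιm x) (hιπ x)
      refine Or.inr ⟨d1, hd1, d2 * (A.h ^ (-((q : ℤ) * i)) * c2),
        mul_mem hd2 (mul_mem (zpow_mem A.h_mem _) h2), ?_⟩
      calc A.t * (ι x * A.h ^ i * A.t * c2) = A.t * ι x * (A.h ^ i * A.t) * c2 := by group
        _ = (A.t * ι x * A.t) * (A.h ^ (-((q : ℤ) * i)) * c2) := by rw [A.hpow_t]; group
        _ = _ := by rw [e]; group
  have hall : ∀ g : G, ∀ s ∈ S, g * s ∈ S ∧ g⁻¹ * s ∈ S := by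
    intro g
    have hg : g ∈ Subgroup.closure ({A.u, A.h, A.t} : Set G) := A.gen ▸ Subgroup.mem_top g
    induction hg using Subgroup.closure_induction with
    | mem x hx =>
      intro s hs
      rcases hx with rfl | rfl | rfl
      · exact ⟨hH _ A.u_mem s hs, hH _ (inv_mem A.u_mem) s hs⟩
      · exact ⟨hH _ A.h_mem s hs, hH _ (inv_mem A.h_mem) s hs⟩
      · exact ⟨ht s hs, by rw [A.t_inv]; exact ht s hs⟩
    | one => intro s hs; simpa using hs
    | mul x y _ _ ihx ihy =>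
      intro s hs
      refine ⟨by rw [mul_assoc]; exact (ihx _ (ihy s hs).1).1, ?_⟩
      rw [_root_.mul_inv_rev, mul_assoc]
      exact (ihy _ (ihx s hs).2).2
    | inv x _ ih => exact fun s hs => ⟨(ih s hs).2, by rw [inv_inv]; exact (ih s hs).1⟩
  let φ : Option C.Par × A.H → G := fun z => z.1.elim (z.2 : G) fun x => ι x * A.t * z.2
  have hφ : Function.Surjective φ := by
    intro g
    have := (hall g 1 (Or.inl (one_mem _))).1
    rw [mul_one] at this
    rcases this with hg | ⟨c1, h1, c2, h2, rfl⟩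
    · exact ⟨(none, ⟨g, hg⟩), rfl⟩
    · obtain ⟨x, i, rfl⟩ := hsplit c1 h1
      refine ⟨(some x, ⟨A.h ^ (-((q : ℤ) * i)) * c2, mul_mem (zpow_mem A.h_mem _) h2⟩), ?_⟩
      show ι x * A.t * (A.h ^ (-((q : ℤ) * i)) * c2) = _
      rw [← mul_assoc, mul_assoc (ι x), ← A.hpow_t, ← mul_assoc]
  refine ⟨Finite.of_surjective φ hφ, (Nat.card_le_card_of_surjective φ hφ).trans ?_⟩
  rw [Nat.card_prod, Finite.card_option, MinIndexU3.card_pairs C.card, C.card_group]
  exact Nat.mul_le_mul_left _ (C.card_borel ▸ A.card_le)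

end Abs

end Cfsg.Agent.BoundedPres.U3
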