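import Cfsg.Agent.Lib.BoundedPres.U3.Orbit
import Cfsg.Agent.Lib.BoundedPres.U3.Closure
import Cfsg.Agent.Lib.BoundedPres.Short.Tuple

/-!
# From relators of the Borel group to a presentation of `SU₃(q)`

`Sys.assemble`: relators that bound the Borel group by its true order give, with four more, a
presentation of `SU₃(q)` on the three generators `u`, `h`, `t`.
-/

set_option autoImplicit false

namespace Cfsg.Agent.BoundedPres.U3

open Polynomial Cfsg.Agent.SL2Presentation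
open Cfsg.Agent.Forms (qEnd qEnd_apply qEnd_qEnd)

theorem polyWord_pow {G : Type*} [Group G] {p : ℕ} (h u : G) (K : ℕ) (P : (ZMod p)[X]) :
    polyWord (h ^ K) u 1 P = polyWord h u K P := by
  simp [polyWord, orb_pow]

variable {F : Type*} [Field F] [Fintype F] {q : ℕ} (C : Ctx F q)

set_option quotPrecheck false in
local notation "σ" => qEnd (Ctx.card C)

section Words

variable (ω : Fˣ) {p : ℕ} [Fact p.Prime] [Algebra (ZMod p) F]

theorem orb_uM (n : ℕ) (x : C.Par) :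
    orb (C.hM ω) (C.uM x) (n : ℤ) = C.uM (C.hact (ω ^ n) x) := by
  rw [orb, zpow_natCast, ← map_pow, C.hM_conj]

theorem pow_uM (x : C.Par) (n : ℕ) :
    ∃ y, C.uM x ^ n = C.uM y ∧ y.1.1 = n * x.1.1 ∧ (x.1.1 = 0 → y.1.2 = n * x.1.2) := by
  induction n with
  | zero => exact ⟨C.pzero, by rw [pow_zero, C.uM_zero], by simp [Ctx.pzero], fun _ => by simp [Ctx.pzero]⟩
  | succ n ih =>
    obtain ⟨y, hy, h1, h2⟩ := ih
    refine ⟨C.pmul y x, by rw [pow_succ, hy, C.uM_mul], ?_, fun h0 => ?_⟩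
    · show y.1.1 + x.1.1 = _
      rw [h1]; push_cast; ring
    · show y.1.2 + x.1.2 - y.1.1 * σ x.1.1 = _
      rw [h2 h0, h0, map_zero]; push_cast; ring

theorem polyWord_uM (x : C.Par) (g : ℕ) (P : (ZMod p)[X]) :
    ∃ y, polyWord (C.hM ω) (C.uM x) g P = C.uM y ∧ y.1.1 = aeval (C.mu ω ^ g) P * x.1.1 ∧
      (x.1.1 = 0 → y.1.2 = aeval (C.nu ω ^ g) P * x.1.2) := by
  rw [aeval_eq_sum_range, aeval_eq_sum_range, polyWord]
  induction P.natDegree + 1 with
  | zero => exact ⟨C.pzero, by simp [C.uM_zero], by simp [Ctx.pzero], fun _ => by simp [Ctx.pzero]⟩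
  | succ n ih =>
    obtain ⟨y, hy, h1, h2⟩ := ih
    obtain ⟨w, hw, k1, k2⟩ := pow_uM C (C.hact (ω ^ (g * n)) x) (P.coeff n).val
    obtain ⟨a1, a2⟩ := C.hact_pow ω (g * n) x
    have hc : ∀ v : F, ((P.coeff n).val : F) * v = P.coeff n • v := fun v => by
      conv_rhs => rw [← ZMod.natCast_zmod_val (P.coeff n), Nat.cast_smul_eq_nsmul, nsmul_eq_mul]
    refine ⟨C.pmul y w, ?_, ?_, fun h0 => ?_⟩
    · rw [List.range_succ, List.map_append, List.prod_append, hy, List.map_cons, List.map_nil,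
        List.prod_cons, List.prod_nil, mul_one, orb_uM, hw, C.uM_mul]
    · show y.1.1 + w.1.1 = _
      rw [Finset.sum_range_succ, h1, k1, a1, pow_mul, hc, add_mul, smul_mul_assoc]
    · show y.1.2 + w.1.2 - y.1.1 * σ w.1.1 = _
      rw [h2 h0, k2 (by rw [a1, h0, mul_zero]), k1, a1, a2, h0, mul_zero, mul_zero, map_zero,
        mul_zero, sub_zero, pow_mul, hc, Finset.sum_range_succ, add_mul, smul_mul_assoc]

theorem comm_uM (x y : C.Par) :
    ∃ w, C.uM x * C.uM y * (C.uM x)⁻¹ * (C.uM y)⁻¹ = C.uM w ∧ w.1.1 = 0 := by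
  refine ⟨C.pmul (C.pmul (C.pmul x y) (C.pinv x)) (C.pinv y), by rw [C.uM_inv, C.uM_inv, C.uM_mul,
    C.uM_mul, C.uM_mul], ?_⟩
  show x.1.1 + y.1.1 + -x.1.1 + -y.1.1 = 0
  ring

end Words

theorem exists_borel_word {G : Type*} [Group G] (φ : FG →* G) {c : G}
    (hc : c ∈ Subgroup.closure ({φ gU, φ gH} : Set G)) :
    ∃ w ∈ Subgroup.closure ({gU, gH} : Set FG), φ w = c := by
  rwa [← Set.image_pair, ← MonoidHom.map_closure, Subgroup.mem_map] at hc

/-- A generator of the multiplicative group, for `q ≥ 3`. -/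
structure Sys (_C : Ctx F q) where
  ω : Fˣ
  hω : ∀ c : Fˣ, c ∈ Subgroup.zpowers ω
  hq : 3 ≤ q

namespace Sys

variable {C} (S : Sys C)

/-- The first generator. -/
def x0 : C.Par :=
  ⟨(1, -(S.ω : F) / C.skw S.ω), by
    have hs := C.skw_ne S.hω
    simp only [map_div₀, map_neg, map_one, C.σ_skw]
    field_simp
    rw [Ctx.skw]; ring⟩

theorem x0_fst : S.x0.1.1 = 1 := rfl

theorem x0_ne : S.x0 ≠ C.pzero := fun e => one_ne_zero (α := F) (by
  simpa [x0, Ctx.pzero] using congrArg (fun x : C.Par => x.1.1) e)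

/-- The coordinate of the central commutator. -/
def cz : F := C.mu S.ω - σ (C.mu S.ω)

theorem cz_ne : S.cz ≠ 0 := sub_ne_zero.2 (C.mu_not_fixed S.hω S.hq).symm

theorem σ_cz : σ S.cz = -S.cz := by rw [cz, map_sub, qEnd_qEnd C.card]; ring

/-- The central commutator. -/
def z0 : C.Par := ⟨(0, S.cz), by simp [S.σ_cz]⟩

theorem z0_fst : S.z0.1.1 = 0 := rfl

theorem z0_ne : S.z0 ≠ C.pzero := fun e => S.cz_ne (by
  simpa [z0, Ctx.pzero] using congrArg (fun x : C.Par => x.1.2) e)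

/-- The word of the central commutator. -/
def zW : FG := gU * orb gH gU (1 : ℕ) * gU⁻¹ * (orb gH gU (1 : ℕ))⁻¹

/-- The evaluation in `SU₃(q)`. -/
noncomputable def M : FG →* ↥(Cfsg.SU 3 F q) := FreeGroup.lift ![C.uM S.x0, C.hM S.ω, C.tM]

theorem MU : S.M gU = C.uM S.x0 := by simp [M]
theorem MH : S.M gH = C.hM S.ω := by simp [M]
theorem MT : S.M gT = C.tM := by simp [M]

theorem Morb (w : FG) (x : C.Par) (n : ℕ) (hw : S.M w = C.uM x) :
    S.M (orb gH w (n : ℤ)) = C.uM (C.hact (S.ω ^ n) x) := by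
  rw [map_orb, MH, hw, orb_uM]

theorem MZ : S.M zW = C.uM S.z0 := by
  rw [zW, map_mul, map_mul, map_mul, map_inv, map_inv, MU, S.Morb gU S.x0 1 S.MU,
    mul_inv_eq_iff_eq_mul, mul_inv_eq_iff_eq_mul, C.uM_mul, C.uM_mul, C.uM_mul]
  congr 1
  obtain ⟨a1, a2⟩ := C.hact_pow S.ω 1 S.x0
  refine Subtype.ext (Prod.ext ?_ ?_)
  · simp only [Ctx.pmul, z0]; ring
  · simp only [Ctx.pmul, z0]
    rw [a1]
    simp only [x0, cz, pow_one, mul_one, map_one, zero_mul]
    ring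

theorem hza (i : ℕ) : (C.hact (S.ω ^ i) S.z0).1.1 = 0 := by
  rw [(C.hact_pow S.ω i S.z0).1, z0_fst, mul_zero]

theorem mu_pow_nu : C.mu S.ω ^ (q + 1) = C.nu S.ω := C.mu_pow S.ω

variable {p : ℕ} [Fact p.Prime] [Algebra (ZMod p) F]

/-- A relator putting a word into the centre of the Borel group. -/
theorem exists_mod (p : ℕ) [Fact p.Prime] [Algebra (ZMod p) F] (w : FG) (y : C.Par)
    (hw : S.M w = C.uM y) (hy : y.1.1 = 0) : ∃ r : FG, S.M r = 1 ∧
      ∀ (Q : Type) [Group Q] (φ : FG →* Q), φ r = 1 →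
        φ w ∈ Subgroup.closure (Set.range (orb (φ gH) (φ zW))) := by
  have hyc := y.2
  rw [hy, zero_mul, add_zero] at hyc
  have hr : σ (y.1.2 / S.cz) = y.1.2 / S.cz := by
    rw [map_div₀, S.σ_cz, show σ y.1.2 = -y.1.2 by linear_combination hyc, neg_div_neg_eq]
  obtain ⟨P, hP⟩ := C.exists_nu_poly (p := p) S.hω hr
  obtain ⟨v, hv, v1, v2⟩ := polyWord_uM C S.ω S.z0 1 P
  refine ⟨w * (polyWord gH zW 1 P)⁻¹, ?_, fun Q _ φ hφ => ?_⟩
  · rw [map_mul, map_inv, map_polyWord, MH, MZ, hv, hw, mul_inv_eq_one]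
    congr 1
    refine Subtype.ext (Prod.ext ?_ ?_)
    · rw [v1, hy, z0_fst, mul_zero]
    · rw [v2 rfl, pow_one, hP]
      exact (div_mul_cancel₀ _ S.cz_ne).symm
  · rw [map_mul, map_inv, map_polyWord, mul_inv_eq_one] at hφ
    rw [hφ]
    exact polyWord_mem _ _ _ _ fun i => Subgroup.subset_closure ⟨_, rfl⟩

theorem borel_eq (p : ℕ) [Fact p.Prime] [Algebra (ZMod p) F] :
    Subgroup.closure ({C.uM S.x0, C.hM S.ω} : Set ↥(Cfsg.SU 3 F q)) = C.borel := by
  apply le_antisymm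
  · rw [Subgroup.closure_le]
    rintro x (rfl | rfl)
    exacts [C.uM_mem _, C.hM_mem _]
  intro g hg
  obtain ⟨x, k, rfl⟩ := C.borel_decomp hg
  set B := Subgroup.closure ({C.uM S.x0, C.hM S.ω} : Set ↥(Cfsg.SU 3 F q)) with hB
  have hu : C.uM S.x0 ∈ B := Subgroup.subset_closure (by simp)
  have hh : C.hM S.ω ∈ B := Subgroup.subset_closure (by simp)
  have hpw : ∀ {v} (_ : v ∈ B) (g : ℕ) (P : (ZMod p)[X]), polyWord (C.hM S.ω) v g P ∈ B :=
    fun hv g P => polyWord_mem _ _ _ _ fun i =>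
      mul_mem (mul_mem (zpow_mem hh _) hv) (inv_mem (zpow_mem hh _))
  obtain ⟨n, rfl⟩ := Ctx.exists_pow S.hω k
  refine mul_mem ?_ (by rw [map_pow]; exact pow_mem hh n)
  obtain ⟨d0, d1, hd0, hd1, hd⟩ := C.exists_split S.hω S.hq x.1.1
  obtain ⟨P0, hP0⟩ := C.exists_nu_poly (p := p) S.hω hd0
  obtain ⟨P1, hP1⟩ := C.exists_nu_poly (p := p) S.hω hd1
  obtain ⟨v0, hv0, hv0', -⟩ := polyWord_uM C S.ω S.x0 (q + 1) P0
  obtain ⟨v1, hv1, hv1', -⟩ := polyWord_uM C S.ω S.x0 (q + 1) P1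
  have m0 : C.uM (C.pmul v0 (C.hact S.ω v1)) ∈ B := by
    rw [← C.uM_mul, ← C.hM_conj, ← hv0, ← hv1]
    exact mul_mem (hpw hu (q + 1) P0) (mul_mem (mul_mem hh (hpw hu (q + 1) P1)) (inv_mem hh))
  set w := C.pmul (C.pinv (C.pmul v0 (C.hact S.ω v1))) x with hw
  have hw0 : w.1.1 = 0 := by
    show -(v0.1.1 + (C.hact S.ω v1).1.1) + x.1.1 = 0
    have e := (C.hact_pow S.ω 1 v1).1
    rw [pow_one, pow_one] at e
    rw [e, hv0', hv1', S.mu_pow_nu, hP0, hP1, hd, x0_fst]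
    ring
  obtain ⟨v, hv, v1', v2'⟩ : ∃ v, (∃ P : (ZMod p)[X],
      polyWord (C.hM S.ω) (C.uM S.z0) 1 P = C.uM v) ∧ v.1.1 = 0 ∧ v.1.2 = w.1.2 := by
    have hwc := w.2
    rw [hw0, zero_mul, add_zero] at hwc
    obtain ⟨P, hP⟩ := C.exists_nu_poly (p := p) S.hω (x := w.1.2 / S.cz) (by
      rw [map_div₀, S.σ_cz, show σ w.1.2 = -w.1.2 by linear_combination hwc, neg_div_neg_eq])
    obtain ⟨v, hv, v1', v2'⟩ := polyWord_uM C S.ω S.z0 1 P
    refine ⟨v, ⟨P, hv⟩, by rw [v1', z0_fst, mul_zero], ?_⟩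
    rw [v2' rfl, pow_one, hP]
    exact div_mul_cancel₀ _ S.cz_ne
  obtain ⟨P, hv⟩ := hv
  have hz : C.uM S.z0 ∈ B := by
    rw [← S.MZ, zW, map_mul, map_mul, map_mul, map_inv, map_inv, map_orb, MU, MH]
    have ho : orb (C.hM S.ω) (C.uM S.x0) ((1 : ℕ) : ℤ) ∈ B :=
      mul_mem (mul_mem (zpow_mem hh _) hu) (inv_mem (zpow_mem hh _))
    exact mul_mem (mul_mem (mul_mem hu ho) (inv_mem hu)) (inv_mem ho)
  have hwB : C.uM w ∈ B := by
    have : w = v := Subtype.ext (Prod.ext (hw0.trans v1'.symm) v2'.symm)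
    rw [this, ← hv]
    exact hpw hz 1 P
  have : C.uM x = C.uM (C.pmul v0 (C.hact S.ω v1)) * C.uM w := by
    rw [hw, ← C.uM_mul (C.pinv _), ← C.uM_inv]; group
  rw [this]
  exact mul_mem m0 hwB

theorem exists_word (p : ℕ) [Fact p.Prime] [Algebra (ZMod p) F] {c : ↥(Cfsg.SU 3 F q)}
    (hc : c ∈ C.borel) : ∃ v ∈ Subgroup.closure ({gU, gH} : Set FG), S.M v = c :=
  exists_borel_word S.M (by rw [MU, MH, S.borel_eq p]; exact hc)

/-- The relator for `t x t`. -/
theorem exists_bruhat (p : ℕ) [Fact p.Prime] [Algebra (ZMod p) F] (w : FG) (x : C.Par)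
    (hw : S.M w = C.uM x) (hx : x ≠ C.pzero) : ∃ r : FG, S.M r = 1 ∧
      ∀ (Q : Type) [Group Q] (φ : FG →* Q), φ r = 1 →
        InCell (Subgroup.closure {φ gU, φ gH}) (φ gT) (φ gT * φ w * φ gT) := by
  rcases C.cell_decomp (C.tM * C.uM x * C.tM) with hmem | ⟨y, c, hc, e⟩
  · exfalso
    have h := ((C.mem_borel_iff _).1 hmem)
    rw [C.co_mul, C.co_mul, C.co_tM, C.co_uM] at h
    simp [Ctx.tMat, Ctx.uMat, Matrix.mul_apply, Fin.sum_univ_three] at h
    exact hx (Subtype.ext (Prod.ext h.1 h.2))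
  obtain ⟨v1, hv1, e1⟩ := S.exists_word p (C.uM_mem y)
  obtain ⟨v2, hv2, e2⟩ := S.exists_word p hc
  refine ⟨gT * w * gT * (v1 * gT * v2)⁻¹, ?_, fun Q _ φ hφ => ?_⟩
  · simp only [map_mul, map_inv, MT, hw, e1, e2]
    rw [← e]; group
  · have hmemφ : ∀ v ∈ Subgroup.closure ({gU, gH} : Set FG),
        φ v ∈ Subgroup.closure ({φ gU, φ gH} : Set Q) := fun v hv => by
      rw [← Set.image_pair, ← MonoidHom.map_closure]
      exact Subgroup.mem_map_of_mem _ hv
    refine ⟨φ v1, hmemφ _ hv1, φ v2, hmemφ _ hv2, ?_⟩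
    rw [map_mul, map_inv, mul_inv_eq_one] at hφ
    simpa only [map_mul] using hφ

theorem zW_mem {Q : Type*} [Group Q] (φ : FG →* Q) :
    φ zW ∈ Subgroup.closure ({φ gU, φ gH} : Set Q) := by
  set H := Subgroup.closure ({φ gU, φ gH} : Set Q)
  have hu : φ gU ∈ H := Subgroup.subset_closure (by simp)
  have hh : φ gH ∈ H := Subgroup.subset_closure (by simp)
  have ho : orb (φ gH) (φ gU) ((1 : ℕ) : ℤ) ∈ H :=
    mul_mem (mul_mem (zpow_mem hh _) hu) (inv_mem (zpow_mem hh _))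
  rw [zW]
  simp only [map_mul, map_inv, map_orb]
  exact mul_mem (mul_mem (mul_mem hu ho) (inv_mem hu)) (inv_mem ho)

/-- Relators bounding the Borel group and four more present `SU₃(q)`. -/
theorem assemble (p : ℕ) [Fact p.Prime] [Algebra (ZMod p) F] (R0 : List FG)
    (hrel0 : ∀ w ∈ R0, S.M w = 1)
    (hb : ∀ (Q : Type) [Group Q] (φ : FG →* Q), (∀ w ∈ R0, φ w = 1) →
      Finite (Subgroup.closure ({φ gU, φ gH} : Set Q)) ∧
        Nat.card (Subgroup.closure ({φ gU, φ gH} : Set Q)) ≤ Nat.card C.borel) :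
    Short.Tup ![C.uM S.x0, C.hM S.ω, C.tM] (R0.length + 4) := by
  obtain ⟨r7, hr7, R7⟩ := S.exists_bruhat p gU S.x0 S.MU S.x0_ne
  obtain ⟨r8, hr8, R8⟩ := S.exists_bruhat p zW S.z0 S.MZ S.z0_ne
  set L : List FG := R0 ++ [gT * gT, gT * gH * gT * gH ^ q, r7, r8] with hL
  have hgen : Subgroup.closure (Set.range ![C.uM S.x0, C.hM S.ω, C.tM]) = ⊤ := by
    rw [eq_top_iff]
    intro g _
    set T := Subgroup.closure (Set.range ![C.uM S.x0, C.hM S.ω, C.tM]) with hT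
    have hbT : C.borel ≤ T := by
      rw [← S.borel_eq p, Subgroup.closure_le]
      rintro x (rfl | rfl)
      · exact Subgroup.subset_closure ⟨0, rfl⟩
      · exact Subgroup.subset_closure ⟨1, rfl⟩
    rcases C.cell_decomp g with hg | ⟨y, c, hc, rfl⟩
    · exact hbT hg
    · exact mul_mem (mul_mem (hbT (C.uM_mem _)) (Subgroup.subset_closure ⟨2, rfl⟩)) (hbT hc)
  have hrel : ∀ w ∈ L, S.M w = 1 := by
    intro w hw
    simp only [hL, List.mem_append, List.mem_cons, List.not_mem_nil, or_false] at hw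
    rcases hw with hw | rfl | rfl | rfl | rfl
    · exact hrel0 w hw
    · rw [map_mul, MT, C.tM_sq]
    · rw [map_mul, map_mul, map_mul, map_pow, MT, MH, C.tM_hM, map_pow, inv_mul_cancel]
    · exact hr7
    · exact hr8
  refine Short.Tup.of_card (R := L) (by simp [hL]) hgen hrel fun Q _ g' hg' hrel' => ?_
  let σQ : PresentedGroup {w | w ∈ L} →* Q := PresentedGroup.toGroup hrel'
  have hσQs : Function.Surjective σQ := by
    rw [← MonoidHom.range_eq_top, eq_top_iff, ← hg', Subgroup.closure_le]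
    rintro _ ⟨i, rfl⟩
    exact ⟨_, PresentedGroup.toGroup.of _⟩
  suffices h : Finite (PresentedGroup {w | w ∈ L}) ∧
      Nat.card (PresentedGroup {w | w ∈ L}) ≤ Nat.card ↥(Cfsg.SU 3 F q) by
    have := h.1
    exact ⟨Finite.of_surjective σQ hσQs, (Nat.card_le_card_of_surjective σQ hσQs).trans h.2⟩
  let π₀ : PresentedGroup {w | w ∈ L} →* ↥(Cfsg.SU 3 F q) := PresentedGroup.toGroup (f := ![C.uM S.x0, C.hM S.ω, C.tM]) hrel
  set ψ : FG →* PresentedGroup {w | w ∈ L} := PresentedGroup.mk _ with hψ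
  have mem : ∀ {r : FG}, r ∈ L → ψ r = 1 := fun hr => PresentedGroup.one_of_mem hr
  have hπψ : ∀ w, π₀ (ψ w) = S.M w := fun w => by
    have : π₀.comp ψ = S.M := FreeGroup.ext_hom _ _ fun a => by
      show π₀ (PresentedGroup.of a) = _
      exact (PresentedGroup.toGroup.of _).trans FreeGroup.lift_apply_of.symm
    exact DFunLike.congr_fun this w
  obtain ⟨hfinH, hcardH⟩ := hb _ ψ fun w hw => mem (List.mem_append_left _ hw)
  let A : Abs C (PresentedGroup {w | w ∈ L}) :=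
    { π := π₀, ω := S.ω, hω := S.hω, u := ψ gU, h := ψ gH, t := ψ gT, z := ψ zW, x0 := S.x0, z0 := S.z0,
      πu := by rw [hπψ, MU]
      πh := by rw [hπψ, MH]
      πt := by rw [hπψ, MT]
      πz := by rw [hπψ, MZ]
      hx0 := rfl
      hz0 := rfl
      hz0' := S.cz_ne
      gen := by
        rw [eq_top_iff, ← PresentedGroup.closure_range_of, Subgroup.closure_le]
        rintro _ ⟨i, rfl⟩
        apply Subgroup.subset_closure
        fin_cases i <;> simp [hψ, PresentedGroup.of]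
      zmem := zW_mem ψ
      surj := by
        intro x hx
        obtain ⟨w, hw, rfl⟩ := S.exists_word p hx
        refine ⟨ψ w, ?_, hπψ w⟩
        rw [← Set.image_pair, ← MonoidHom.map_closure]
        exact Subgroup.mem_map_of_mem _ hw
      fin := hfinH
      card_le := hcardH
      t2 := by rw [← map_mul]; exact mem (by simp [hL])
      tht := by rw [← map_mul, ← map_mul, ← map_pow, ← map_mul]; exact mem (by simp [hL])
      bnu := R7 _ ψ (mem (by simp [hL]))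
      bnz := R8 _ ψ (mem (by simp [hL])) }
  exact A.bound

end Sys

end Cfsg.Agent.BoundedPres.U3
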