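import Cfsg.Agent.Lib.BoundedPres.U3.Orbit
import Cfsg.Agent.Lib.BoundedPres.U3.Assemble

/-!
# `SU₃(q)` has a presentation with three generators and twenty relators
-/

set_option autoImplicit false

namespace Cfsg.Agent.BoundedPres.U3

open Polynomial Cfsg.Agent.SL2Presentation
open Cfsg.Agent.Forms (qEnd qEnd_apply qEnd_qEnd)

/-- The relations hold in a subgroup. -/
theorem Rels.subgroup {G : Type*} [Group G] {p : ℕ} [Fact p.Prime] {N K b : ℕ}
    {m f0 f1 : (ZMod p)[X]} {H : Subgroup G} {u h z : H}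
    (R : Rels (p := p) (u : G) (h : G) (z : G) N K b m f0 f1) :
    Rels (p := p) u h z N K b m f0 f1 := by
  have inj : ∀ {x y : H}, H.subtype x = H.subtype y → x = y := fun e => H.subtype_injective e
  have mem : ∀ {x : H}, (x : G) ∈ Subgroup.closure (Set.range (orb (h : G) (z : G))) →
      x ∈ Subgroup.closure (Set.range (orb h z)) := by
    intro x hx
    rw [← Subgroup.mem_map_iff_mem H.subtype_injective, MonoidHom.map_closure, ← Set.range_comp,
      show H.subtype ∘ orb h z = orb (h : G) (z : G) from funext fun i => map_orb H.subtype h z i]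
    exact hx
  refine ⟨inj ?_, inj ?_, inj ?_, inj ?_, inj ?_, inj ?_, fun i hi => inj ?_, mem ?_,
    fun i hi => mem ?_, mem ?_, mem ?_, mem ?_⟩
  · rw [map_pow, map_one]; exact R.order
  · rw [map_pow, map_one]; exact R.zp
  · simp only [map_mul, map_orb]; exact R.zc
  · simp only [map_mul, map_orb]; exact R.zb
  · rw [map_polyWord, map_one]; exact R.zm
  · simp only [map_orb]; exact R.zK
  · simp only [map_mul, map_orb]; exact R.uz i hi
  · have := R.up
    simpa using this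
  · have := R.uc i hi
    rw [show (((u * orb h u i * u⁻¹ * (orb h u i)⁻¹ : H)) : G) =
      H.subtype (u * orb h u i * u⁻¹ * (orb h u i)⁻¹) from rfl]
    simp only [map_mul, map_inv, map_orb]
    exact this
  · rw [show ((((u * orb h u K)⁻¹ * orb h u (b * K : ℕ) : H)) : G) =
      H.subtype ((u * orb h u K)⁻¹ * orb h u (b * K : ℕ)) from rfl]
    simp only [map_mul, map_inv, map_orb]
    exact R.ub
  · rw [show ((polyWord (h ^ K) u 1 m : H) : G) = H.subtype (polyWord (h ^ K) u 1 m) from rfl,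
      map_polyWord, map_pow]
    exact R.um
  · rw [show ((((polyWord h u K f0 * (h * polyWord h u K f1 * h⁻¹))⁻¹ * orb h u 2 : H)) : G) =
      H.subtype ((polyWord h u K f0 * (h * polyWord h u K f1 * h⁻¹))⁻¹ * orb h u 2) from rfl]
    simp only [map_mul, map_inv, map_orb, map_polyWord]
    exact R.u2

open Sys

variable {F : Type*} [Field F] [Fintype F] {q : ℕ}

theorem su_tup (hF : Fintype.card F = q ^ 2) (hq : 4 ≤ q) :
    ∃ g : Fin 3 → ↥(Cfsg.SU 3 F q), Short.Tup g 20 := by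
  classical
  obtain ⟨C⟩ := exists_ctx hF
  obtain ⟨p, hchar⟩ := CharP.exists F
  have := hchar
  obtain ⟨-, hp, -⟩ := FiniteField.card F p
  have := Fact.mk hp
  let : Algebra (ZMod p) F := ZMod.algebra F p
  obtain ⟨ω, hω⟩ := IsCyclic.exists_generator (α := Fˣ)
  have hs := C.skw_ne hω
  have hω0 := ω.ne_zero
  set N := q ^ 2 - 1 with hN
  set K := q + 1 with hK
  have hN0 : 0 < N := by
    have := Nat.pow_le_pow_left hq 2
    omega
  let S : Sys C := ⟨ω, hω, by omega⟩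
  have MU : S.M gU = C.uM S.x0 := S.MU
  have MH : S.M gH = C.hM ω := S.MH
  have Morb : ∀ (w : FG) (x : C.Par) (n : ℕ), S.M w = C.uM x →
      S.M (orb gH w (n : ℤ)) = C.uM (C.hact (ω ^ n) x) := S.Morb
  have MZ : S.M zW = C.uM S.z0 := S.MZ
  -- the parameters of the relators
  set ν := C.nu ω with hν
  have hσν : qEnd C.card ν = ν := C.σ_nu ω
  have h1ν : (1 : F) + ν ≠ 0 := fun e => C.nu_ne_neg_one hω hq (by linear_combination e)
  obtain ⟨b, hb⟩ := C.exists_nu_pow hω (x := 1 + ν) (by rw [map_add, map_one, hσν]) h1ν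
  have hint : IsIntegral (ZMod p) ν := IsIntegral.of_finite _ _
  set m := minpoly (ZMod p) ν with hm
  have hmon : m.Monic := minpoly.monic hint
  have hfix : ∀ P : (ZMod p)[X], qEnd C.card (aeval ν P) = aeval ν P := fun P => by
    rw [aeval_def, hom_eval₂, hσν, show (qEnd C.card).comp (algebraMap (ZMod p) F) =
      algebraMap (ZMod p) F from RingHom.ext_zmod _ _]
  have hdeg : p ^ m.natDegree ≤ q := by
    let e : Polynomial.degreeLT (ZMod p) m.natDegree → {a : F // a + qEnd C.card a = 0} := fun P =>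
      ⟨C.skw ω * aeval ν P.1, by rw [map_mul, hfix, C.σ_skw]; ring⟩
    have he : Function.Injective e := by
      rintro ⟨P, hP⟩ ⟨Q, hQ⟩ h
      have h0 : aeval ν (P - Q) = 0 := by
        rw [map_sub, sub_eq_zero]
        exact mul_left_cancel₀ hs (congrArg Subtype.val h)
      apply Subtype.ext
      by_contra hne
      have hd := minpoly.degree_le_of_ne_zero (ZMod p) ν (sub_ne_zero.2 hne) h0
      have hlt : (P - Q).degree < m.natDegree :=
        lt_of_le_of_lt (degree_sub_le P Q) (max_lt (mem_degreeLT.1 hP) (mem_degreeLT.1 hQ))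
      rw [← degree_eq_natDegree hmon.ne_zero] at hlt
      exact absurd hlt (not_lt.2 hd)
    let eq' := (Polynomial.degreeLTEquiv (ZMod p) m.natDegree).toEquiv
    have := Nat.card_le_card_of_injective e he
    rwa [MinIndexU3.card_skew C.card, Nat.card_congr eq', Nat.card_fun, Nat.card_zmod,
      Nat.card_fin] at this
  obtain ⟨c0, c1, hc0, hc1, hsplit⟩ := C.exists_split hω (by omega) (C.mu ω ^ 2)
  obtain ⟨f0, hf0⟩ := C.exists_nu_poly (p := p) hω hc0
  obtain ⟨f1, hf1⟩ := C.exists_nu_poly (p := p) hω hc1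
  -- the words that are central in the Borel group
  have hμK : C.mu ω ^ K = ν := C.mu_pow ω
  obtain ⟨y1, hy1, hy1'⟩ := pow_uM C S.x0 p
  obtain ⟨r1, hr1, R1⟩ := S.exists_mod p (gU ^ p) y1 (by rw [map_pow, MU, hy1])
    (by rw [hy1'.1, CharP.cast_eq_zero, zero_mul])
  obtain ⟨y2, hy2, hy2'⟩ := comm_uM C S.x0 (C.hact (ω ^ K) S.x0)
  obtain ⟨r2, hr2, R2⟩ := S.exists_mod p (gU * orb gH gU (K : ℕ) * gU⁻¹ * (orb gH gU (K : ℕ))⁻¹) y2
    (by rw [map_mul, map_mul, map_mul, map_inv, map_inv, MU, Morb gU S.x0 K MU, hy2]) hy2'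
  obtain ⟨y3, hy3, hy3'⟩ := comm_uM C S.x0 (C.hact (ω ^ (1 + K)) S.x0)
  obtain ⟨r3, hr3, R3⟩ := S.exists_mod p (gU * orb gH gU (1 + K : ℕ) * gU⁻¹ * (orb gH gU (1 + K : ℕ))⁻¹) y3
    (by rw [map_mul, map_mul, map_mul, map_inv, map_inv, MU, Morb gU S.x0 (1 + K) MU, hy3]) hy3'
  obtain ⟨r4, hr4, R4⟩ := S.exists_mod p ((gU * orb gH gU (K : ℕ))⁻¹ * orb gH gU (b * K : ℕ))
    (C.pmul (C.pinv (C.pmul S.x0 (C.hact (ω ^ K) S.x0))) (C.hact (ω ^ (b * K)) S.x0))
    (by rw [map_mul, map_inv, map_mul, MU, Morb gU S.x0 K MU, Morb gU S.x0 (b * K) MU, C.uM_mul, C.uM_inv,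
      C.uM_mul]) (by
      show -(S.x0.1.1 + (C.hact (ω ^ K) S.x0).1.1) + (C.hact (ω ^ (b * K)) S.x0).1.1 = 0
      rw [(C.hact_pow ω K S.x0).1, (C.hact_pow ω (b * K) S.x0).1, mul_comm b, pow_mul, hμK, ← hb]
      simp [Sys.x0_fst])
  obtain ⟨y5, hy5, hy5', -⟩ := polyWord_uM C ω S.x0 K m
  obtain ⟨r5, hr5, R5⟩ := S.exists_mod p (polyWord (gH ^ K) gU 1 m) y5
    (by rw [polyWord_pow, map_polyWord, MH, MU, hy5])
    (by rw [hy5', hμK, hm, minpoly.aeval, zero_mul])
  obtain ⟨y6, hy6, hy6', -⟩ := polyWord_uM C ω S.x0 K f0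
  obtain ⟨y7, hy7, hy7', -⟩ := polyWord_uM C ω S.x0 K f1
  obtain ⟨r6, hr6, R6⟩ := S.exists_mod p
    ((polyWord gH gU K f0 * (gH * polyWord gH gU K f1 * gH⁻¹))⁻¹ * orb gH gU (2 : ℕ))
    (C.pmul (C.pinv (C.pmul y6 (C.hact ω y7))) (C.hact (ω ^ 2) S.x0))
    (by rw [map_mul, map_inv, map_mul, map_mul, map_mul, map_inv, map_polyWord, map_polyWord, MH, MU, hy6,
      hy7, C.hM_conj, Morb gU S.x0 2 MU, C.uM_mul, C.uM_inv, C.uM_mul]) (by
      show -(y6.1.1 + (C.hact ω y7).1.1) + (C.hact (ω ^ 2) S.x0).1.1 = 0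
      have e := (C.hact_pow ω 1 y7).1
      rw [pow_one, pow_one] at e
      rw [e, hy6', hy7', hμK, hf0, hf1, (C.hact_pow ω 2 S.x0).1, hsplit]
      simp [Sys.x0_fst])
  -- the list of relators
  set zo : ℕ → FG := fun i => orb gH zW (i : ℤ) with hzo
  set L : List FG := [gH ^ N, zW ^ p, zW * zo 1 * (zo 1 * zW)⁻¹, zo b * (zW * zo 1)⁻¹,
    polyWord gH zW 1 m, zo K * (zo 2)⁻¹, gU * zo 0 * (zo 0 * gU)⁻¹, gU * zo 1 * (zo 1 * gU)⁻¹,
    gU * zo 2 * (zo 2 * gU)⁻¹, gU * zo 3 * (zo 3 * gU)⁻¹, r1, r2, r3, r4, r5, r6] with hL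
  have Mzo : ∀ i : ℕ, S.M (zo i) = C.uM (C.hact (ω ^ i) S.z0) := fun i => Morb zW S.z0 i MZ
  have hza : ∀ i : ℕ, (C.hact (ω ^ i) S.z0).1.1 = 0 := S.hza
  have hz00 : S.z0.1.1 = 0 := rfl
  have hrel : ∀ w ∈ L, S.M w = 1 := by
    have hcentral : ∀ (x : C.Par) (i : ℕ),
        C.uM x * C.uM (C.hact (ω ^ i) S.z0) * (C.uM (C.hact (ω ^ i) S.z0) * C.uM x)⁻¹ = 1 := by
      intro x i
      rw [mul_inv_eq_one, C.uM_mul, C.uM_mul]
      congr 1
      refine Subtype.ext (Prod.ext ?_ ?_)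
      · exact add_comm _ _
      · simp only [Ctx.pmul, hza i, map_zero]; ring
    intro w hw
    simp only [hL, List.mem_cons, List.not_mem_nil, or_false] at hw
    rcases hw with rfl | rfl | rfl | rfl | rfl | rfl | rfl | rfl | rfl | rfl | rfl | rfl | rfl | rfl |
      rfl | rfl
    · rw [map_pow, MH, ← map_pow, hN, ← C.orderOf_gen hω, pow_orderOf_eq_one, map_one]
    · obtain ⟨y, hy, e1, e2⟩ := pow_uM C S.z0 p
      rw [map_pow, MZ, hy, ← C.uM_zero]
      congr 1
      refine Subtype.ext (Prod.ext ?_ ?_)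
      · rw [e1, CharP.cast_eq_zero, zero_mul]; rfl
      · rw [e2 rfl, CharP.cast_eq_zero, zero_mul]; rfl
    · simp only [map_mul, map_inv, MZ, Mzo]
      exact hcentral S.z0 1
    · simp only [map_mul, map_inv, MZ, Mzo]
      rw [mul_inv_eq_one, C.uM_mul]
      congr 1
      refine Subtype.ext (Prod.ext ?_ ?_)
      · show (C.hact (ω ^ b) S.z0).1.1 = S.z0.1.1 + (C.hact (ω ^ 1) S.z0).1.1
        rw [hza, hza, hz00, add_zero]
      · show (C.hact (ω ^ b) S.z0).1.2 =
          S.z0.1.2 + (C.hact (ω ^ 1) S.z0).1.2 - S.z0.1.1 * qEnd C.card (C.hact (ω ^ 1) S.z0).1.1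
        rw [(C.hact_pow ω b S.z0).2, (C.hact_pow ω 1 S.z0).2, hz00, ← hν, ← hb, pow_one]
        ring
    · obtain ⟨y, hy, e1, e2⟩ := polyWord_uM C ω S.z0 1 m
      rw [map_polyWord, MH, MZ, hy, ← C.uM_zero]
      congr 1
      refine Subtype.ext (Prod.ext ?_ ?_)
      · rw [e1, hz00, mul_zero]; rfl
      · rw [e2 rfl, pow_one, ← hν, hm, minpoly.aeval, zero_mul]; rfl
    · simp only [map_mul, map_inv, Mzo]
      rw [mul_inv_eq_one]
      congr 1
      refine Subtype.ext (Prod.ext ((hza _).trans (hza _).symm) ?_)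
      rw [(C.hact_pow ω _ S.z0).2, (C.hact_pow ω _ S.z0).2, hK, C.nu_pow]
    · simp only [map_mul, map_inv, MU, Mzo]; exact hcentral S.x0 0
    · simp only [map_mul, map_inv, MU, Mzo]; exact hcentral S.x0 1
    · simp only [map_mul, map_inv, MU, Mzo]; exact hcentral S.x0 2
    · simp only [map_mul, map_inv, MU, Mzo]; exact hcentral S.x0 3
    · exact hr1
    · exact hr2
    · exact hr3
    · exact hr4
    · exact hr5
    · exact hr6
  refine ⟨_, S.assemble p L hrel fun Q _ ψ hψR => ?_⟩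
  set H := Subgroup.closure ({ψ gU, ψ gH} : Set Q) with hH
  have huH : ψ gU ∈ H := Subgroup.subset_closure (by simp)
  have hhH : ψ gH ∈ H := Subgroup.subset_closure (by simp)
  have hzH : ψ zW ∈ H := Sys.zW_mem ψ
  have mem : ∀ {r : FG}, r ∈ L → ψ r = 1 := fun hr => hψR _ hr
  have heq : ∀ {x y : FG}, x * y⁻¹ ∈ L → ψ x = ψ y := fun h => by
    have := mem h
    rwa [map_mul, map_inv, mul_inv_eq_one] at this
  have hcast : ∀ i : ℕ, ψ (zo i) = orb (ψ gH) (ψ zW) (i : ℤ) := fun i => map_orb _ _ _ _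
  have hRels : Rels (p := p) (ψ gU) (ψ gH) (ψ zW) N K b m f0 f1 := by
    refine ⟨?_, ?_, ?_, ?_, ?_, ?_, ?_, ?_, ?_, ?_, ?_, ?_⟩
    · rw [← map_pow]; exact mem (by simp [hL])
    · rw [← map_pow]; exact mem (by simp [hL])
    · have := heq (x := zW * zo 1) (y := zo 1 * zW) (by simp [hL])
      simp only [map_mul, hcast] at this
      exact_mod_cast this
    · have := heq (x := zo b) (y := zW * zo 1) (by simp [hL])
      simp only [map_mul, hcast] at this
      exact_mod_cast this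
    · rw [← map_polyWord]; exact mem (by simp [hL])
    · have := heq (x := zo K) (y := zo 2) (by simp [hL])
      simp only [hcast] at this
      exact_mod_cast this
    · intro i hi
      have := heq (x := gU * zo i) (y := zo i * gU) (by
        simp only [Finset.mem_insert, Finset.mem_singleton] at hi
        rcases hi with rfl | rfl | rfl | rfl <;> simp [hL])
      simp only [map_mul, hcast] at this
      exact this
    · rw [← map_pow]; exact R1 _ ψ (mem (by simp [hL]))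
    · intro i hi
      simp only [Finset.mem_insert, Finset.mem_singleton] at hi
      rcases hi with rfl | rfl | rfl
      · have : ψ zW ∈ Subgroup.closure (Set.range (orb (ψ gH) (ψ zW))) :=
          Subgroup.subset_closure ⟨0, orb_zero _ _⟩
        have e : ψ zW = ψ gU * orb (ψ gH) (ψ gU) (1 : ℕ) * (ψ gU)⁻¹ *
            (orb (ψ gH) (ψ gU) (1 : ℕ))⁻¹ := by
          rw [zW]; simp only [map_mul, map_inv, map_orb]
        rw [← e]
        exact this
      · simpa only [map_mul, map_inv, map_orb] using R2 _ ψ (mem (by simp [hL]))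
      · simpa only [map_mul, map_inv, map_orb] using R3 _ ψ (mem (by simp [hL]))
    · simpa only [map_mul, map_inv, map_orb] using R4 _ ψ (mem (by simp [hL]))
    · rw [← map_pow, ← map_polyWord]; exact R5 _ ψ (mem (by simp [hL]))
    · simpa only [map_mul, map_inv, map_orb, map_polyWord, Nat.cast_ofNat] using
        R6 _ ψ (mem (by simp [hL]))
  have hgenH : Subgroup.closure ({⟨ψ gU, huH⟩, ⟨ψ gH, hhH⟩} : Set H) = ⊤ := by
    rw [eq_top_iff]
    rintro ⟨x, hx⟩ -
    rw [← Subgroup.mem_map_iff_mem H.subtype_injective, MonoidHom.map_closure]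
    simpa [Set.image_pair] using hx
  obtain ⟨hfinH, hcardH⟩ := borel_bound (p := p) (u := (⟨ψ gU, huH⟩ : H)) (h := ⟨ψ gH, hhH⟩)
    (z := ⟨ψ zW, hzH⟩) hgenH hmon hN0 (Rels.subgroup hRels)
  refine ⟨hfinH, hcardH.trans ?_⟩
  rw [C.card_borel, hN]
  calc p ^ m.natDegree * p ^ m.natDegree * (q ^ 2 - 1) * p ^ m.natDegree
      ≤ q * q * (q ^ 2 - 1) * q :=
        Nat.mul_le_mul (Nat.mul_le_mul_right _ (Nat.mul_le_mul hdeg hdeg)) hdeg
    _ = (q ^ 2 - 1) * q ^ 3 := by ring

end Cfsg.Agent.BoundedPres.U3
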