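import Cfsg.Agent.Lib.SL2Presentation.Additive
import Cfsg.Agent.Lib.MinIndexU3.Stab

/-!
# `SU₃(q)` in the coordinates of a frame

Unipotent elements, torus and Weyl element in the coordinates of a hyperbolic frame `(e, w, f)`.
-/

set_option autoImplicit false

namespace Cfsg.Agent.BoundedPres.U3

open Matrix
open Cfsg.Agent.TwoConjBound.U3
open Cfsg.Agent.Forms (qEnd qEnd_apply qEnd_qEnd)
open Cfsg.Agent.MinIndexU3

/-- A finite field of square order with a hyperbolic frame. -/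
structure Ctx (F : Type*) [Field F] [Fintype F] (q : ℕ) where
  card : Fintype.card F = q ^ 2
  e : Fin 3 → F
  w : Fin 3 → F
  f : Fin 3 → F
  frame : IsFrame (F := F) (q := q) e w f

variable {F : Type*} [Field F] [Fintype F] {q : ℕ}

theorem exists_ctx (hF : Fintype.card F = q ^ 2) : Nonempty (Ctx F q) := by
  obtain ⟨e, w, f, hf⟩ := exists_frame' hF
  exact ⟨⟨hF, e, w, f, hf⟩⟩

namespace Ctx

variable (C : Ctx F q)

local notation "M3" => Matrix (Fin 3) (Fin 3) F
set_option quotPrecheck false in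
local notation "SU3" => ↥(Cfsg.SU 3 F q)
set_option quotPrecheck false in
local notation "σ" => qEnd (Ctx.card C)

/-- The frame as a matrix. -/
def P : M3 := cols C.e C.w C.f

theorem P_isUnit : IsUnit C.P.det := (Matrix.isUnit_iff_isUnit_det _).1 (C.frame.isUnit C.card)

theorem P_inv : C.P⁻¹ * C.P = 1 := Matrix.nonsing_inv_mul _ C.P_isUnit

theorem inv_P : C.P * C.P⁻¹ = 1 := Matrix.mul_nonsing_inv _ C.P_isUnit

/-- The antidiagonal form. -/
def anti (x y : Fin 3 → F) : F := x 0 * σ (y 2) + x 1 * σ (y 1) + x 2 * σ (y 0)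

theorem herm_P (x y : Fin 3 → F) : Cfsg.hermForm 3 F q (C.P *ᵥ x) (C.P *ᵥ y) = C.anti x y :=
  C.frame.h_cols C.card x y

/-- An element given in frame coordinates. -/
noncomputable def elt (A : M3) (hd : A.det = 1)
    (hA : ∀ x y, C.anti (A *ᵥ x) (A *ᵥ y) = C.anti x y) : SU3 :=
  ofMat (C.P * A * C.P⁻¹) (by rw [Matrix.det_conj ((Matrix.isUnit_iff_isUnit_det _).2 C.P_isUnit), hd])
    fun u v => by
      have e : ∀ u, (C.P * A * C.P⁻¹) *ᵥ u = C.P *ᵥ (A *ᵥ (C.P⁻¹ *ᵥ u)) := fun u => by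
        simp only [mulVec_mulVec, Matrix.mul_assoc]
      have e2 : ∀ u, C.P *ᵥ (C.P⁻¹ *ᵥ u) = u := fun u => by rw [mulVec_mulVec, C.inv_P, one_mulVec]
      rw [e, e, C.herm_P, hA, ← C.herm_P, e2, e2]

/-- The coordinates of an element. -/
noncomputable def co (g : SU3) : M3 := C.P⁻¹ * mat g * C.P

theorem co_elt (A : M3) (hd : A.det = 1) (hA : ∀ x y, C.anti (A *ᵥ x) (A *ᵥ y) = C.anti x y) :
    C.co (C.elt A hd hA) = A := by
  rw [co, elt, mat_ofMat, ← Matrix.mul_assoc, ← Matrix.mul_assoc, C.P_inv, Matrix.one_mul,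
    Matrix.mul_assoc, C.P_inv, Matrix.mul_one]

theorem co_mul (g g' : SU3) : C.co (g * g') = C.co g * C.co g' := by
  simp only [co, mat_mul, Matrix.mul_assoc]
  rw [← Matrix.mul_assoc C.P C.P⁻¹, C.inv_P, Matrix.one_mul]

theorem co_one : C.co (1 : SU3) = 1 := by rw [co, mat_one, Matrix.mul_one, C.P_inv]

theorem co_inj {g g' : SU3} (e : C.co g = C.co g') : g = g' := by
  apply mat_inj
  have := congrArg (fun A => C.P * A * C.P⁻¹) e
  simp only [co, ← Matrix.mul_assoc, C.inv_P, Matrix.one_mul] at this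
  simpa only [Matrix.mul_assoc, C.inv_P, Matrix.mul_one] using this

theorem co_mul_vec (g g' : SU3) (x : Fin 3 → F) : C.co (g * g') *ᵥ x = C.co g *ᵥ (C.co g' *ᵥ x) := by
  rw [co_mul, mulVec_mulVec]

theorem co_anti (g : SU3) (x y : Fin 3 → F) : C.anti (C.co g *ᵥ x) (C.co g *ᵥ y) = C.anti x y := by
  have e : ∀ x, C.P *ᵥ (C.co g *ᵥ x) = mat g *ᵥ (C.P *ᵥ x) := fun x => by
    simp only [mulVec_mulVec, co, ← Matrix.mul_assoc, C.inv_P, Matrix.one_mul]
  rw [← C.herm_P, ← C.herm_P, e, e, preserves]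

omit [Fintype F] in
theorem mulVec_three (A : M3) (x : Fin 3 → F) : A *ᵥ x =
    ![A 0 0 * x 0 + A 0 1 * x 1 + A 0 2 * x 2, A 1 0 * x 0 + A 1 1 * x 1 + A 1 2 * x 2,
      A 2 0 * x 0 + A 2 1 * x 1 + A 2 2 * x 2] := by
  funext i
  fin_cases i <;> simp [Matrix.mulVec, dotProduct, Fin.sum_univ_three]

/-! ### The elements -/

/-- Parameters of the unipotent radical. -/
abbrev Par : Type _ := {x : F × F // x.2 + σ x.2 + x.1 * σ x.1 = 0}

/-- Unipotent matrices. -/
def uMat (a b : F) : M3 := !![1, a, b; 0, 1, -σ a; 0, 0, 1]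

/-- Diagonal matrices. -/
def hMat (k : F) : M3 := !![k, 0, 0; 0, σ k / k, 0; 0, 0, (σ k)⁻¹]

/-- The Weyl matrix. -/
def tMat (_C : Ctx F q) : M3 := !![0, 0, 1; 0, -1, 0; 1, 0, 0]

/-- Unipotent elements. -/
noncomputable def uM (x : C.Par) : SU3 :=
  C.elt (C.uMat x.1.1 x.1.2) (by simp [uMat, det_fin_three]) fun y z => by
    simp only [anti, mulVec_three, uMat]
    simp [qEnd_qEnd C.card]
    linear_combination (y 2 * σ (z 2)) * x.2

/-- Torus elements. -/
noncomputable def hU (k : Fˣ) : SU3 :=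
  C.elt (C.hMat k) (by
    have h1 := k.ne_zero
    have h2 : σ (k : F) ≠ 0 := (map_ne_zero σ).2 h1
    simp [hMat, det_fin_three]; field_simp) fun y z => by
    have h1 := k.ne_zero
    have h2 : σ (k : F) ≠ 0 := (map_ne_zero σ).2 h1
    simp only [anti, mulVec_three, hMat]
    simp [qEnd_qEnd C.card]
    field_simp

/-- The Weyl element. -/
noncomputable def tM : SU3 :=
  C.elt C.tMat (by simp [tMat, det_fin_three]) fun y z => by
    simp only [anti, mulVec_three, tMat]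
    simp
    ring

theorem co_uM (x : C.Par) : C.co (C.uM x) = C.uMat x.1.1 x.1.2 := C.co_elt _ _ _
theorem co_hU (k : Fˣ) : C.co (C.hU k) = C.hMat k := C.co_elt _ _ _
theorem co_tM : C.co C.tM = C.tMat := C.co_elt _ _ _

theorem par_add {x y : F × F} (hx : x.2 + σ x.2 + x.1 * σ x.1 = 0)
    (hy : y.2 + σ y.2 + y.1 * σ y.1 = 0) :
    (x.2 + y.2 - x.1 * σ y.1) + σ (x.2 + y.2 - x.1 * σ y.1) + (x.1 + y.1) * σ (x.1 + y.1) = 0 := by
  simp only [map_add, map_sub, map_mul, qEnd_qEnd C.card]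
  linear_combination hx + hy

/-- The product of parameters. -/
def pmul (x y : C.Par) : C.Par :=
  ⟨(x.1.1 + y.1.1, x.1.2 + y.1.2 - x.1.1 * σ y.1.1), C.par_add x.2 y.2⟩

/-- The inverse of a parameter. -/
def pinv (x : C.Par) : C.Par :=
  ⟨(-x.1.1, σ x.1.2), by
    show σ x.1.2 + σ (σ x.1.2) + _ = 0
    rw [qEnd_qEnd C.card, map_neg]
    linear_combination x.2⟩

/-- The trivial parameter. -/
def pzero : C.Par := ⟨(0, 0), by simp⟩

theorem uM_mul (x y : C.Par) : C.uM x * C.uM y = C.uM (C.pmul x y) := by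
  apply C.co_inj
  rw [co_mul, co_uM, co_uM, co_uM]
  ext i j
  fin_cases i <;> fin_cases j <;>
    simp [uMat, pmul, Matrix.mul_apply, Fin.sum_univ_three] <;> ring

theorem uM_zero : C.uM C.pzero = 1 := by
  apply C.co_inj
  rw [co_uM, co_one]
  ext i j
  fin_cases i <;> fin_cases j <;> simp [uMat, pzero]

theorem uM_inv (x : C.Par) : (C.uM x)⁻¹ = C.uM (C.pinv x) := by
  apply inv_eq_of_mul_eq_one_right
  rw [uM_mul, ← C.uM_zero]
  congr 1
  apply Subtype.ext
  refine Prod.ext ?_ ?_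
  · simp [pmul, pinv, pzero]
  · simp [pmul, pinv, pzero]
    linear_combination x.2

theorem uM_inj : Function.Injective C.uM := by
  intro x y e
  have := congrArg C.co e
  rw [co_uM, co_uM] at this
  exact Subtype.ext (Prod.ext (by simpa [uMat] using congrFun (congrFun this 0) 1)
    (by simpa [uMat] using congrFun (congrFun this 0) 2))

/-- The torus. -/
noncomputable def hM : Fˣ →* SU3 where
  toFun := C.hU
  map_one' := by
    apply C.co_inj
    rw [co_hU, co_one]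
    ext i j
    fin_cases i <;> fin_cases j <;> simp [hMat]
  map_mul' k l := by
    apply C.co_inj
    rw [co_mul, co_hU, co_hU, co_hU]
    ext i j
    fin_cases i <;> fin_cases j <;>
      simp [hMat, Matrix.mul_apply, Fin.sum_univ_three] <;> field_simp

theorem co_hM (k : Fˣ) : C.co (C.hM k) = C.hMat k := C.co_hU k

/-- The action of the torus on parameters. -/
def hact (k : Fˣ) (x : C.Par) : C.Par :=
  ⟨((k : F) * k / σ k * x.1.1, (k : F) * σ k * x.1.2), by
    have h1 := k.ne_zero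
    have h2 : σ (k : F) ≠ 0 := (map_ne_zero σ).2 h1
    show (k : F) * σ k * x.1.2 + σ ((k : F) * σ k * x.1.2) +
      (k : F) * k / σ k * x.1.1 * σ ((k : F) * k / σ k * x.1.1) = 0
    simp only [map_mul, map_div₀, qEnd_qEnd C.card]
    field_simp
    linear_combination ((k : F) * σ (k : F)) * x.2⟩

theorem hM_conj (k : Fˣ) (x : C.Par) : C.hM k * C.uM x * (C.hM k)⁻¹ = C.uM (C.hact k x) := by
  rw [mul_inv_eq_iff_eq_mul]
  apply C.co_inj
  rw [co_mul, co_mul, co_hM, co_uM, co_uM]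
  have h1 := k.ne_zero
  have h2 : σ (k : F) ≠ 0 := (map_ne_zero σ).2 h1
  ext i j
  fin_cases i <;> fin_cases j <;>
    simp [uMat, hMat, hact, Matrix.mul_apply, Fin.sum_univ_three, qEnd_qEnd C.card] <;> field_simp

theorem tM_sq : C.tM * C.tM = 1 := by
  apply C.co_inj
  rw [co_mul, co_tM, co_one]
  ext i j
  fin_cases i <;> fin_cases j <;> simp [tMat, Matrix.mul_apply, Fin.sum_univ_three]

theorem tM_hM (k : Fˣ) : C.tM * C.hM k * C.tM = (C.hM (k ^ q))⁻¹ := by
  apply eq_inv_of_mul_eq_one_left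
  apply C.co_inj
  rw [co_mul, co_mul, co_mul, co_tM, co_hM, co_hM, co_one]
  have h1 := k.ne_zero
  have h2 : σ (k : F) ≠ 0 := (map_ne_zero σ).2 h1
  have e : ((k ^ q : Fˣ) : F) = σ k := by rw [Units.val_pow_eq_pow_val, qEnd_apply]
  ext i j
  fin_cases i <;> fin_cases j <;>
    simp [tMat, hMat, e, qEnd_qEnd C.card, Matrix.mul_apply, Fin.sum_univ_three]

/-! ### The Borel group -/

/-- The stabiliser of the first line. -/
noncomputable def borel : Subgroup (Cfsg.SU 3 F q) :=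
  MulAction.stabilizer (Cfsg.SU 3 F q) (pt C.e (e_ne C.card C.frame) C.frame.ee)

theorem card_borel : Nat.card C.borel = (q ^ 2 - 1) * q ^ 3 := card_stab C.card C.frame

theorem mem_borel_iff (g : SU3) : g ∈ C.borel ↔ C.co g 1 0 = 0 ∧ C.co g 2 0 = 0 := by
  rw [borel, MulAction.mem_stabilizer_iff, fix_iff]
  have e0 : C.P *ᵥ ![1, 0, 0] = C.e := by rw [P, cols_mulVec]; simp
  have e1 : mat g *ᵥ C.e = C.P *ᵥ (C.co g *ᵥ ![1, 0, 0]) := by
    rw [← e0]
    simp only [mulVec_mulVec, co, ← Matrix.mul_assoc, C.inv_P, Matrix.one_mul]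
  have hinj := Matrix.mulVec_injective_iff_isUnit.2 ((Matrix.isUnit_iff_isUnit_det _).2 C.P_isUnit)
  constructor
  · rintro ⟨l, hl⟩
    rw [e1, ← e0, ← mulVec_smul] at hl
    have := hinj hl
    rw [mulVec_three] at this
    exact ⟨by simpa using congrFun this 1, by simpa using congrFun this 2⟩
  · rintro ⟨h1, h2⟩
    refine ⟨C.co g 0 0, ?_⟩
    rw [e1, ← e0, ← mulVec_smul]
    congr 1
    rw [mulVec_three]
    funext i
    fin_cases i <;> simp [h1, h2]

theorem uM_mem (x : C.Par) : C.uM x ∈ C.borel := by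
  rw [mem_borel_iff, co_uM]; simp [uMat]

theorem hM_mem (k : Fˣ) : C.hM k ∈ C.borel := by
  rw [mem_borel_iff, co_hM]; simp [hMat]

theorem uh_injective : Function.Injective fun z : C.Par × Fˣ => C.uM z.1 * C.hM z.2 := by
  rintro ⟨x, k⟩ ⟨y, l⟩ e
  have e' := congrArg C.co e
  simp only [co_mul, co_uM, co_hM] at e'
  have hk : k = l := Units.ext (by
    simpa [uMat, hMat, Matrix.mul_apply, Fin.sum_univ_three] using congrFun (congrFun e' 0) 0)
  subst hk
  have hxy : C.uM x = C.uM y := mul_right_cancel e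
  rw [C.uM_inj hxy]

/-- Every element of the Borel group is unipotent times torus. -/
theorem borel_decomp {g : SU3} (hg : g ∈ C.borel) : ∃ x k, g = C.uM x * C.hM k := by
  let φ : C.Par × Fˣ → C.borel := fun z => ⟨_, mul_mem (C.uM_mem z.1) (C.hM_mem z.2)⟩
  have hφ : Function.Injective φ := fun a b e => C.uh_injective (congrArg Subtype.val e)
  have hcard : Nat.card C.borel ≤ Nat.card (C.Par × Fˣ) := by
    rw [card_borel, Nat.card_prod, card_pairs C.card, Nat.card_units,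
      Nat.card_eq_fintype_card (α := F), C.card, mul_comm]
  obtain ⟨⟨x, k⟩, e⟩ := (hφ.bijective_of_nat_card_le hcard).2 ⟨g, hg⟩
  exact ⟨x, k, (congrArg Subtype.val e).symm⟩

/-- Unipotents times `t` cover the rest of the group. -/
theorem cell_decomp (g : SU3) : g ∈ C.borel ∨ ∃ x, ∃ c ∈ C.borel, g = C.uM x * C.tM * c := by
  have hiso := C.co_anti g ![1, 0, 0] ![1, 0, 0]
  set v := C.co g *ᵥ ![1, 0, 0] with hv
  have hvi : ∀ i, v i = C.co g i 0 := fun i => by
    rw [hv, mulVec_three]; fin_cases i <;> simp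
  simp [anti] at hiso
  by_cases h2 : v 2 = 0
  · left
    rw [mem_borel_iff, ← hvi, ← hvi]
    refine ⟨?_, h2⟩
    simp [h2] at hiso
    exact hiso
  · right
    have hs : σ (v 2) ≠ 0 := (map_ne_zero σ).2 h2
    let x : C.Par := ⟨(-σ (v 1 / v 2), v 0 / v 2), by
      show v 0 / v 2 + σ (v 0 / v 2) + _ = 0
      simp only [map_neg, map_div₀, qEnd_qEnd C.card]
      field_simp
      linear_combination hiso⟩
    refine ⟨x, C.tM * (C.uM x)⁻¹ * g, ?_, ?_⟩
    · rw [mem_borel_iff]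
      have e : C.co (C.tM * (C.uM x)⁻¹ * g) *ᵥ ![1, 0, 0] = ![v 2, 0, 0] := by
        rw [co_mul_vec, ← hv, uM_inv, co_mul_vec, co_uM, co_tM, mulVec_three]
        rw [mulVec_three]
        funext i
        fin_cases i <;> simp [uMat, tMat, x, pinv, qEnd_qEnd C.card]
        all_goals field_simp
        all_goals first | ring1 | linear_combination hiso
      rw [mulVec_three] at e
      exact ⟨by simpa using congrFun e 1, by simpa using congrFun e 2⟩
    · rw [show C.uM x * C.tM * (C.tM * (C.uM x)⁻¹ * g) = C.uM x * (C.tM * C.tM) * ((C.uM x)⁻¹ * g) by group,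
        tM_sq]
      group

include C in
theorem card_group : Nat.card SU3 = (q ^ 3 + 1) * ((q ^ 2 - 1) * q ^ 3) := card_SU3 C.card

/-! ### A generator of the multiplicative group -/

include C in
theorem one_lt : 1 < q := Forms.one_lt_q C.card

variable (ω : Fˣ)

/-- The norm of the generator. -/
def nu : F := (ω : F) * σ ω

/-- The scaling of the first coordinate by the generator. -/
def mu : F := (ω : F) * ω / σ ω

/-- A skew element. -/
def skw : F := (ω : F) - σ ω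

theorem σ_nu : σ (C.nu ω) = C.nu ω := by rw [nu, map_mul, qEnd_qEnd C.card, mul_comm]

theorem nu_ne : C.nu ω ≠ 0 := mul_ne_zero ω.ne_zero ((map_ne_zero σ).2 ω.ne_zero)

theorem σ_skw : σ (C.skw ω) = -C.skw ω := by rw [skw, map_sub, qEnd_qEnd C.card]; ring

theorem nu_eq : C.nu ω = ((ω ^ (q + 1) : Fˣ) : F) := by
  rw [nu, qEnd_apply, Units.val_pow_eq_pow_val, pow_succ']

theorem mu_pow : C.mu ω ^ (q + 1) = C.nu ω := by
  have h1 := ω.ne_zero
  have h2 : σ (ω : F) ≠ 0 := (map_ne_zero σ).2 h1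
  rw [pow_succ', ← qEnd_apply C.card]
  simp only [mu, nu, map_div₀, map_mul, qEnd_qEnd C.card]
  field_simp

theorem nu_pow : C.nu ω ^ (q + 1) = C.nu ω ^ 2 := by
  rw [pow_succ, ← qEnd_apply C.card, σ_nu, sq]

theorem hact_pow (n : ℕ) (x : C.Par) :
    (C.hact (ω ^ n) x).1.1 = C.mu ω ^ n * x.1.1 ∧ (C.hact (ω ^ n) x).1.2 = C.nu ω ^ n * x.1.2 := by
  have h1 := ω.ne_zero
  have h2 : σ (ω : F) ≠ 0 := (map_ne_zero σ).2 h1
  constructor
  · show ((ω ^ n : Fˣ) : F) * ((ω ^ n : Fˣ) : F) / σ ((ω ^ n : Fˣ) : F) * x.1.1 = _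
    rw [Units.val_pow_eq_pow_val, map_pow, mu, div_pow, mul_pow]
  · show ((ω ^ n : Fˣ) : F) * σ ((ω ^ n : Fˣ) : F) * x.1.2 = _
    rw [Units.val_pow_eq_pow_val, map_pow, nu, mul_pow]

section Gen

variable {ω} (hω : ∀ c : Fˣ, c ∈ Subgroup.zpowers ω)
include hω

include C in
theorem orderOf_gen : orderOf ω = q ^ 2 - 1 := by
  rw [orderOf_eq_card_of_forall_mem_zpowers hω, Nat.card_units, Nat.card_eq_fintype_card, C.card]

theorem exists_pow (c : Fˣ) : ∃ n : ℕ, c = ω ^ n := by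
  obtain ⟨n, hn⟩ := Submonoid.mem_powers_iff _ _ |>.1 ((mem_powers_iff_mem_zpowers).2 (hω c))
  exact ⟨n, hn.symm⟩

theorem fixed_iff (n : ℕ) : σ ((ω : F) ^ n) = (ω : F) ^ n ↔ q + 1 ∣ n := by
  constructor
  · intro h
    have h' : ω ^ (n * (q - 1)) = 1 := by
      apply Units.ext
      have hq := C.one_lt
      rw [Units.val_pow_eq_pow_val, Units.val_one]
      apply mul_left_cancel₀ (pow_ne_zero n ω.ne_zero)
      rw [mul_one, ← pow_add, show n + n * (q - 1) = n * q by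
        obtain ⟨r, rfl⟩ : ∃ r, q = r + 1 := ⟨q - 1, by omega⟩
        simp; ring, pow_mul]
      rwa [qEnd_apply] at h
    have hd := orderOf_dvd_of_pow_eq_one h'
    rw [C.orderOf_gen hω, show q ^ 2 - 1 = (q + 1) * (q - 1) by
      simpa using Nat.sq_sub_sq q 1] at hd
    exact Nat.dvd_of_mul_dvd_mul_right (by have := C.one_lt; omega) hd
  · rintro ⟨j, rfl⟩
    rw [pow_mul, ← Units.val_pow_eq_pow_val, ← C.nu_eq, map_pow, σ_nu]

theorem exists_nu_pow {x : F} (hx : σ x = x) (h0 : x ≠ 0) : ∃ n : ℕ, x = C.nu ω ^ n := by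
  obtain ⟨n, hn⟩ := exists_pow hω (Units.mk0 x h0)
  have hn' : x = (ω : F) ^ n := by
    have := congrArg Units.val hn
    simpa using this
  obtain ⟨j, rfl⟩ := (C.fixed_iff hω n).1 (by rw [← hn', hx])
  exact ⟨j, by rw [hn', C.nu_eq, Units.val_pow_eq_pow_val, pow_mul]⟩

theorem pow_ne_fixed {n : ℕ} (h1 : 0 < n) (h2 : n ≤ q) : σ ((ω : F) ^ n) ≠ (ω : F) ^ n := fun h => by
  have := Nat.le_of_dvd h1 ((C.fixed_iff hω n).1 h)
  omega

theorem skw_ne : C.skw ω ≠ 0 := by
  intro h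
  refine C.pow_ne_fixed hω one_pos C.one_lt.le ?_
  rw [pow_one]
  exact (sub_eq_zero.1 h).symm

theorem exists_nu_poly {p : ℕ} [Fact p.Prime] [Algebra (ZMod p) F] {x : F} (hx : σ x = x) :
    ∃ P : Polynomial (ZMod p), Polynomial.aeval (C.nu ω) P = x := by
  by_cases h0 : x = 0
  · exact ⟨0, by simp [h0]⟩
  obtain ⟨n, rfl⟩ := C.exists_nu_pow hω hx h0
  exact ⟨Polynomial.X ^ n, by simp⟩

theorem mu_not_fixed (hq : 3 ≤ q) : σ (C.mu ω) ≠ C.mu ω := by
  intro h
  have h1 := ω.ne_zero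
  have h2 : σ (ω : F) ≠ 0 := (map_ne_zero σ).2 h1
  have h3 : σ ((ω : F) ^ 3) = (ω : F) ^ 3 := by
    simp only [mu, map_div₀, map_mul, qEnd_qEnd C.card] at h
    field_simp at h
    rw [map_pow]
    linear_combination h
  exact C.pow_ne_fixed hω (by omega) hq h3

theorem nu_ne_neg_one (hq : 4 ≤ q) : C.nu ω ≠ -1 := by
  intro h
  have h2 : ω ^ (2 * (q + 1)) = 1 := by
    apply Units.ext
    rw [Units.val_one, mul_comm, pow_mul, Units.val_pow_eq_pow_val, ← C.nu_eq, h, neg_one_sq]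
  have hd := orderOf_dvd_of_pow_eq_one h2
  rw [C.orderOf_gen hω, show q ^ 2 - 1 = (q - 1) * (q + 1) by
    rw [mul_comm]; simpa using Nat.sq_sub_sq q 1] at hd
  have := Nat.le_of_dvd two_pos (Nat.dvd_of_mul_dvd_mul_right (by omega) hd)
  omega

/-- Every element is a fixed element plus a fixed multiple of `mu`. -/
theorem exists_split (hq : 3 ≤ q) (c : F) :
    ∃ c0 c1, σ c0 = c0 ∧ σ c1 = c1 ∧ c = c0 + C.mu ω * c1 := by
  have hd : C.mu ω - σ (C.mu ω) ≠ 0 := sub_ne_zero.2 (C.mu_not_fixed hω hq).symm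
  have hd' : σ (C.mu ω) - C.mu ω ≠ 0 := sub_ne_zero.2 (C.mu_not_fixed hω hq)
  set c1 := (c - σ c) / (C.mu ω - σ (C.mu ω)) with hc1
  have h1 : σ c1 = c1 := by
    rw [hc1, map_div₀, map_sub, map_sub, qEnd_qEnd C.card, qEnd_qEnd C.card,
      ← neg_div_neg_eq, neg_sub, neg_sub]
  have key : c1 * (C.mu ω - σ (C.mu ω)) = c - σ c := div_mul_cancel₀ _ hd
  refine ⟨c - C.mu ω * c1, c1, ?_, h1, by ring⟩
  rw [map_sub, map_mul, h1]
  linear_combination key

end Gen

end Ctx

end Cfsg.Agent.BoundedPres.U3
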