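import Cfsg.Agent.Lib.SL2Presentation.Odd

/-!
# A bound on the Borel group of a presentation of `SU₃(q)`

Two orbits under a torus element `h`: the central one of `z` and the one of `u` modulo it, which is
spanned by two lines along the step `K`.
-/

set_option autoImplicit false

namespace Cfsg.Agent.BoundedPres.U3

open Polynomial Cfsg.Agent.SL2Presentation
open scoped IsMulCommutative

/-! ### Spreading commutation along triangles -/

theorem spread_one {P : ℤ → Prop} {b : ℤ} (h1 : ∀ i, P i → P (i + b) → P (i + 1))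
    (h2 : ∀ m, P m → P (m - 1) → P (m - b)) (h3 : ∀ m, P (m - 1) → P (m - b) → P m)
    (p0 : P 0) (p1 : P 1) (n : ℕ) : P n := by
  suffices P n ∧ P (n + 1) from this.1
  induction n with
  | zero => exact ⟨by simpa using p0, by simpa using p1⟩
  | succ n ih =>
    obtain ⟨a, c⟩ := ih
    refine ⟨by push_cast; exact c, ?_⟩
    push_cast
    have e1 : P ((n : ℤ) + 1 - b) := h2 _ c (by rwa [add_sub_cancel_right])
    have e2 : P ((n : ℤ) + 1 - b + 1) := h1 _ e1 (by rwa [sub_add_cancel])
    refine h3 _ (by rwa [add_sub_cancel_right]) ?_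
    convert e2 using 1; ring

theorem spread_two {P : ℤ → Prop} {b : ℤ} (h1 : ∀ i, P i → P (i + 1) → P (i + 2 * b) → P (i + 2))
    (h2 : ∀ m, P m → P (m - 2) → P (m - 2 * b)) (h3 : ∀ m, P (m - 2) → P (m - 2 * b) → P m)
    (p0 : P 0) (p1 : P 1) (p2 : P 2) (p3 : P 3) (n : ℕ) : P n := by
  suffices P n ∧ P (n + 1) ∧ P (n + 2) ∧ P (n + 3) from this.1
  induction n with
  | zero => exact ⟨by simpa using p0, by simpa using p1, by simpa using p2, by simpa using p3⟩
  | succ n ih =>
    obtain ⟨a0, a1, a2, a3⟩ := ih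
    push_cast
    refine ⟨a1, by convert a2 using 1; ring, by convert a3 using 1; ring, ?_⟩
    have e1 : P ((n : ℤ) + 2 - 2 * b) := h2 _ a2 (by rwa [add_sub_cancel_right])
    have e2 : P ((n : ℤ) + 3 - 2 * b) := h2 _ a3 (by convert a1 using 1; ring)
    have e3 : P ((n : ℤ) + 2 - 2 * b + 2) :=
      h1 _ e1 (by convert e2 using 1; ring) (by rwa [sub_add_cancel])
    refine h3 _ (by convert a2 using 1; ring) ?_
    convert e3 using 1; ring

/-! ### Orbits -/

variable {G : Type*} [Group G] {p : ℕ}

theorem orb_add_period {h : G} {N : ℕ} (hN : h ^ N = 1) (v : G) (i k : ℤ) :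
    orb h v (i + N * k) = orb h v i := by
  simp [orb, zpow_add, zpow_mul, hN]

theorem exists_nat_orb {h : G} {N : ℕ} (hN : h ^ N = 1) (hN0 : 0 < N) (v : G) (i : ℤ) :
    ∃ n : ℕ, orb h v i = orb h v n := by
  refine ⟨(i % N).toNat, ?_⟩
  rw [Int.toNat_of_nonneg (Int.emod_nonneg i (by omega)), Int.emod_def, sub_eq_add_neg,
    ← mul_neg, orb_add_period hN]

theorem commute_orb_iff (h v w : G) (i j : ℤ) :
    Commute (orb h v i) (orb h w j) ↔ Commute v (orb h w (j - i)) := by
  have e : ∀ (k : ℤ) (x : G), MulAut.conj (h ^ k) x = h ^ k * x * (h ^ k)⁻¹ := fun _ _ => rfl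
  constructor <;> intro hc
  · have := hc.map (MulAut.conj (h ^ (-i))).toMonoidHom
    simp only [MulEquiv.coe_toMonoidHom, e, conj_orb, neg_add_cancel, orb_zero] at this
    rwa [show -i + j = j - i by ring] at this
  · have := hc.map (MulAut.conj (h ^ i)).toMonoidHom
    simp only [MulEquiv.coe_toMonoidHom, e, conj_orb, add_sub_cancel] at this
    exact this

theorem orb_pow (h v : G) (K : ℕ) (i : ℤ) : orb (h ^ K) v i = orb h v (K * i) := by
  simp [orb, zpow_mul]

theorem orb_pow_elt (h v : G) (i : ℤ) (n : ℕ) : orb h v i ^ n = orb h (v ^ n) i := by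
  simp only [orb, conj_pow]

theorem orb_succ (h v : G) (i : ℤ) : h * orb h v i * h⁻¹ = orb h v (1 + i) := by
  rw [← conj_orb, zpow_one]

/-- A commuting orbit with a monic relation is small. -/
theorem orbit_small [Fact p.Prime] {N : ℕ} (h u : G) (hN : h ^ N = 1) (hN0 : 0 < N) (hup : u ^ p = 1)
    (hcomm : ∀ i j : ℤ, Commute (orb h u i) (orb h u j)) (m : (ZMod p)[X]) (hm : m.Monic)
    (hmw : polyWord h u 1 m = 1) :
    Finite (Subgroup.closure (Set.range (orb h u))) ∧
      Nat.card (Subgroup.closure (Set.range (orb h u))) ≤ p ^ m.natDegree := by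
  set A := Subgroup.closure (Set.range (orb h u)) with hA
  have hS : ∀ x ∈ Set.range (orb h u), ∀ y ∈ Set.range (orb h u), x * y = y * x := by
    rintro _ ⟨i, rfl⟩ _ ⟨j, rfl⟩
    exact hcomm i j
  have := isMulCommutative_closure_of hS
  have hexp := exponent_closure hS (p := p) (by
    rintro _ ⟨i, rfl⟩
    rw [orb_pow_elt, hup]; simp [orb])
  have hinv : ∀ x ∈ A, h * x * h⁻¹ ∈ A := conj_invariant_closure h (by
    rintro _ ⟨i, rfl⟩
    exact Subgroup.subset_closure ⟨1 + i, (orb_succ h u i).symm⟩)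
  obtain ⟨ev, hmem, hword, hadd, hX⟩ := exists_eval A h u
    (Subgroup.subset_closure ⟨0, orb_zero h u⟩) hexp hinv
  have h0 : ev 0 = 1 := by have := hadd 0 0; rw [add_zero] at this; simpa using this
  have hmul : ∀ Q : (ZMod p)[X], ev (Q * m) = 1 := by
    intro Q
    induction Q using Polynomial.induction_on' with
    | add a b iha ihb => rw [add_mul, hadd, iha, ihb, mul_one]
    | monomial n c =>
      induction n with
      | zero =>
        rw [monomial_zero_left, ← ZMod.natCast_zmod_val c, map_natCast]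
        generalize c.val = k
        induction k with
        | zero => simpa using h0
        | succ k ih => rw [Nat.cast_succ, add_mul, one_mul, hadd, ih, hword, hmw, one_mul]
      | succ n ih =>
        rw [show monomial (n + 1) c = X * monomial n c from (X_mul_monomial n c).symm, mul_assoc, hX, ih]
        group
  have hmod : ∀ P, ev (P %ₘ m) = ev P := fun P => by
    conv_rhs => rw [← modByMonic_add_div P m]
    rw [hadd, mul_comm m, hmul, mul_one]
  have hXn : ∀ n : ℕ, ev (X ^ n) = orb h u n := by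
    intro n
    induction n with
    | zero => rw [pow_zero, hword]; simp [polyWord, orb, ZMod.val_one]
    | succ n ih =>
      rw [pow_succ', hX, ih, orb_succ]
      congr 1; push_cast; ring
  have hsurj : ∀ x ∈ A, ∃ P, ev P = x := by
    intro x hx
    induction hx using Subgroup.closure_induction with
    | mem y hy =>
      obtain ⟨i, rfl⟩ := hy
      obtain ⟨n, hn⟩ := exists_nat_orb hN hN0 u i
      exact ⟨X ^ n, by rw [hXn, hn]⟩
    | one => exact ⟨0, h0⟩
    | mul y z _ _ ihy ihz =>
      obtain ⟨P, rfl⟩ := ihy; obtain ⟨Q, rfl⟩ := ihz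
      exact ⟨P + Q, hadd P Q⟩
    | inv y _ ih =>
      obtain ⟨P, rfl⟩ := ih
      refine ⟨-P, eq_inv_of_mul_eq_one_left ?_⟩
      rw [← hadd, neg_add_cancel, h0]
  let e : (Polynomial.degreeLT (ZMod p) m.natDegree) → A := fun P => ⟨ev P.1, hmem _⟩
  have he : Function.Surjective e := by
    rintro ⟨x, hx⟩
    obtain ⟨P, rfl⟩ := hsurj x hx
    refine ⟨⟨P %ₘ m, Polynomial.mem_degreeLT.2 ?_⟩, Subtype.ext (hmod P)⟩
    rw [← degree_eq_natDegree hm.ne_zero]
    exact degree_modByMonic_lt P hm
  let eq' := (Polynomial.degreeLTEquiv (ZMod p) m.natDegree).toEquiv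
  have hfin : Finite (Polynomial.degreeLT (ZMod p) m.natDegree) := Finite.of_equiv _ eq'.symm
  refine ⟨Finite.of_surjective e he, (Nat.card_le_card_of_surjective e he).trans_eq ?_⟩
  rw [Nat.card_congr eq', Nat.card_fun, Nat.card_zmod, Nat.card_fin]

/-- A group `A ⋊ ⟨h⟩` where `A` is spanned by two lines of the orbit of `u`. -/
theorem two_lines [Fact p.Prime] {u h : G} (hgen : Subgroup.closure ({u, h} : Set G) = ⊤) {N K : ℕ}
    {b : ℤ} (hN : h ^ N = 1) (hN0 : 0 < N) (hup : u ^ p = 1) (hcK : Commute u (orb h u K))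
    (hbK : orb h u (b * K) = u * orb h u K) (hb : 0 ≤ b) (m : (ZMod p)[X]) (hm : m.Monic)
    (hmw : polyWord (h ^ K) u 1 m = 1) (hc1 : Commute u (orb h u 1))
    (hc1K : Commute u (orb h u (1 + K))) (f0 f1 : (ZMod p)[X])
    (h2 : orb h u 2 = polyWord h u K f0 * (h * polyWord h u K f1 * h⁻¹)) :
    Finite G ∧ Nat.card G ≤ p ^ m.natDegree * p ^ m.natDegree * N := by
  set A0 := Subgroup.closure (Set.range (orb (h ^ K) u)) with hA0
  have hKN : (h ^ K) ^ N = 1 := by rw [← pow_mul, mul_comm, pow_mul, hN, one_pow]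
  have hcomm0 : ∀ i j : ℤ, Commute (orb (h ^ K) u i) (orb (h ^ K) u j) := by
    obtain ⟨c, rfl⟩ := Int.eq_ofNat_of_zero_le hb
    intro i j
    have := gcd_commute (h := h ^ K) (u := u) (a := 1) (b := c)
      (by rw [orb_pow, orb_pow, Nat.cast_one, mul_one, mul_comm (K : ℤ)]; exact hbK)
      (by rw [orb_pow, Nat.cast_one, mul_one]; exact hcK) i j
    simpa using this
  obtain ⟨hfin0, hcard0⟩ := orbit_small (h ^ K) u hKN hN0 hup hcomm0 m hm hmw
  have hperiod : ∀ (i : ℤ) (n : ℕ), (∀ m : ℕ, Commute u (orb h u (1 + K * m))) →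
      i % N = n → Commute u (orb h u (1 + K * i)) := fun i n hall hi => by
    have e : 1 + (K : ℤ) * i = 1 + K * n + N * (K * (i / N)) := by
      rw [← hi, Int.emod_def]; ring
    rw [e, orb_add_period hN]
    exact hall n
  -- the two lines commute
  have hline : ∀ i : ℤ, Commute u (orb h u (1 + K * i)) := by
    have tri : ∀ k : ℤ, orb h u (k + b * K) = orb h u k * orb h u (k + K) := fun k => by
      rw [← conj_orb h u k (b * K), hbK, ← conj_orb h u k K]
      simp only [orb]; group
    have hnat : ∀ n : ℕ, Commute u (orb h u (1 + K * n)) :=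
      fun n => spread_one (P := fun i => Commute u (orb h u (1 + K * i))) (b := b)
        (fun i hi hib => by
          have e := tri (1 + K * i)
          rw [show 1 + (K : ℤ) * i + b * K = 1 + K * (i + b) by ring,
            show 1 + (K : ℤ) * i + K = 1 + K * (i + 1) by ring] at e
          have e' : orb h u (1 + K * (i + 1)) = (orb h u (1 + K * i))⁻¹ * orb h u (1 + K * (i + b)) := by
            rw [e]; group
          show Commute _ _
          rw [e']
          exact hi.inv_right.mul_right hib)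
        (fun k hk hk1 => by
          show Commute _ _
          rw [show 1 + (K : ℤ) * (k - b) = (1 + K * k) - b * K by ring, ← commute_orb_iff, hbK]
          refine hk.mul_left ?_
          rw [commute_orb_iff]
          convert hk1 using 2; ring)
        (fun k hk1 hkb => by
          show Commute _ _
          have e : u = orb h u (b * K) * (orb h u K)⁻¹ := by rw [hbK]; group
          nth_rewrite 1 [e]
          refine Commute.mul_left ?_ (Commute.inv_left ?_) <;> rw [commute_orb_iff]
          · convert hkb using 2; ring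
          · convert hk1 using 2; ring)
        (by simpa using hc1) (by simpa using hc1K) n
    intro i
    exact hperiod i (i % N).toNat hnat (Int.toNat_of_nonneg (Int.emod_nonneg i (by omega))).symm
  set A1 := A0.map (MulAut.conj h).toMonoidHom with hA1
  have hA1' : A1 = Subgroup.closure (Set.range fun i : ℤ => orb h u (1 + K * i)) := by
    rw [hA1, hA0, MonoidHom.map_closure, ← Set.range_comp]
    congr 1
    congr 1
    funext i
    simp [orb_pow, orb_succ]
  have h01 : ∀ x ∈ A0, ∀ y ∈ A1, Commute x y := by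
    intro x hx y hy
    rw [hA1'] at hy
    have hgens : ∀ i j : ℤ, Commute (orb (h ^ K) u i) (orb h u (1 + K * j)) := fun i j => by
      rw [orb_pow, commute_orb_iff, show 1 + (K : ℤ) * j - K * i = 1 + K * (j - i) by ring]
      exact hline _
    induction hx using Subgroup.closure_induction with
    | mem x hx =>
      obtain ⟨i, rfl⟩ := hx
      induction hy using Subgroup.closure_induction with
      | mem y hy => obtain ⟨j, rfl⟩ := hy; exact hgens i j
      | one => exact Commute.one_right _
      | mul _ _ _ _ a b => exact a.mul_right b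
      | inv _ _ a => exact a.inv_right
    | one => exact Commute.one_left _
    | mul _ _ _ _ a b => exact a.mul_left b
    | inv _ _ a => exact a.inv_left
  let φ : A0 × A1 →* G := MonoidHom.noncommCoprod A0.subtype A1.subtype fun a b => h01 a a.2 b b.2
  set A := φ.range with hA
  have hA0A : A0 ≤ A := fun x hx => ⟨(⟨x, hx⟩, 1), by simp [φ, MonoidHom.noncommCoprod]⟩
  have hA1A : A1 ≤ A := fun x hx => ⟨(1, ⟨x, hx⟩), by simp [φ, MonoidHom.noncommCoprod]⟩
  have hinv0 : ∀ x ∈ A0, h ^ K * x * (h ^ K)⁻¹ ∈ A0 := conj_invariant_closure _ (by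
    rintro _ ⟨i, rfl⟩
    exact Subgroup.subset_closure ⟨1 + i, (orb_succ _ u i).symm⟩)
  have hshift : ∀ i : ℤ, h ^ ((K : ℤ) * i) * orb h u 2 * (h ^ ((K : ℤ) * i))⁻¹ ∈ A := by
    intro i
    have key : ∀ (j : ℤ) (f : (ZMod p)[X]),
        h ^ ((K : ℤ) * j) * polyWord h u K f * (h ^ ((K : ℤ) * j))⁻¹ ∈ A0 := by
      intro j f
      obtain ⟨n, hn⟩ : ∃ n : ℕ, h ^ ((K : ℤ) * j) = (h ^ K) ^ n := by
        refine ⟨(j % N).toNat, ?_⟩
        rw [← zpow_natCast _ (Int.toNat _), Int.toNat_of_nonneg (Int.emod_nonneg j (by omega)),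
          Int.emod_def, zpow_sub, zpow_mul, zpow_mul (h ^ K), zpow_natCast, zpow_natCast, hKN,
          one_zpow, inv_one, mul_one]
      rw [hn]
      clear hn
      induction n with
      | zero =>
        simp only [pow_zero, one_mul, inv_one, mul_one]
        refine polyWord_mem h u K f fun i => ?_
        refine Subgroup.subset_closure ⟨i, ?_⟩
        rw [orb_pow]; push_cast; rfl
      | succ n ih =>
        have := hinv0 _ ih
        convert this using 1
        rw [pow_succ']; group
    rw [h2, show h ^ ((K : ℤ) * i) * (polyWord h u K f0 * (h * polyWord h u K f1 * h⁻¹)) *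
        (h ^ ((K : ℤ) * i))⁻¹ = h ^ ((K : ℤ) * i) * polyWord h u K f0 * (h ^ ((K : ℤ) * i))⁻¹ *
          (h * (h ^ ((K : ℤ) * i) * polyWord h u K f1 * (h ^ ((K : ℤ) * i))⁻¹) * h⁻¹) by group]
    exact A.mul_mem (hA0A (key i f0)) (hA1A ⟨_, key i f1, rfl⟩)
  have hAh : ∀ x ∈ A, h * x * h⁻¹ ∈ A := by
    rintro _ ⟨⟨a, c⟩, rfl⟩
    have e : φ (a, c) = (a : G) * c := rfl
    have e2 : h * ((a : G) * c) * h⁻¹ = (h * a * h⁻¹) * (h * c * h⁻¹) := by group
    rw [e, e2]
    refine A.mul_mem (hA1A ⟨a, a.2, rfl⟩) ?_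
    have hc := c.2
    generalize (c : G) = y at hc
    rw [hA1'] at hc
    induction hc using Subgroup.closure_induction with
    | mem x hx =>
      obtain ⟨i, rfl⟩ := hx
      have := hshift i
      rw [conj_orb] at this
      rw [orb_succ]
      convert this using 2; ring
    | one => simp
    | mul x y _ _ a b => simpa [conj_mul] using A.mul_mem a b
    | inv x _ a =>
      rw [← conj_inv]
      exact A.inv_mem a
  have hAhp : ∀ (n : ℕ), ∀ x ∈ A, h ^ n * x * (h ^ n)⁻¹ ∈ A := by
    intro n
    induction n with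
    | zero => simp
    | succ n ih =>
      intro x hx
      have := hAh _ (ih x hx)
      convert this using 1
      rw [pow_succ']; group
  have huA : u ∈ A := hA0A (Subgroup.subset_closure ⟨0, orb_zero _ u⟩)
  have hall : ∀ g : G, ∃ a ∈ A, ∃ n : ℕ, g = a * h ^ n := by
    intro g
    have hg : g ∈ Subgroup.closure ({u, h} : Set G) := hgen ▸ Subgroup.mem_top g
    induction hg using Subgroup.closure_induction with
    | mem x hx =>
      rcases hx with rfl | rfl
      · exact ⟨x, huA, 0, by simp⟩
      · exact ⟨1, A.one_mem, 1, by simp⟩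
    | one => exact ⟨1, A.one_mem, 0, by simp⟩
    | mul x y _ _ ihx ihy =>
      obtain ⟨a, ha, n, rfl⟩ := ihx
      obtain ⟨c, hc, k, rfl⟩ := ihy
      exact ⟨a * (h ^ n * c * (h ^ n)⁻¹), A.mul_mem ha (hAhp n c hc), n + k, by rw [pow_add]; group⟩
    | inv x _ ih =>
      obtain ⟨a, ha, n, rfl⟩ := ih
      obtain ⟨k, hk⟩ : ∃ k : ℕ, (h ^ n)⁻¹ = h ^ k := by
        refine ⟨n * (N - 1), inv_eq_of_mul_eq_one_right ?_⟩
        rw [← pow_add, show n + n * (N - 1) = N * n by
          obtain ⟨M, rfl⟩ : ∃ M, N = M + 1 := ⟨N - 1, by omega⟩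
          simp; ring, pow_mul, hN, one_pow]
      exact ⟨h ^ k * a⁻¹ * (h ^ k)⁻¹, hAhp k _ (A.inv_mem ha), k, by rw [mul_inv_rev, hk]; group⟩
  have hfin1 : Finite A1 := Finite.of_surjective (fun x : A0 => (⟨_, ⟨x.1, x.2, rfl⟩⟩ : A1))
    fun ⟨y, x, hx, e⟩ => ⟨⟨x, hx⟩, Subtype.ext e⟩
  have hcard1 : Nat.card A1 ≤ p ^ m.natDegree :=
    (Nat.card_le_card_of_surjective (fun x : A0 => (⟨_, ⟨x.1, x.2, rfl⟩⟩ : A1))
      fun ⟨y, x, hx, e⟩ => ⟨⟨x, hx⟩, Subtype.ext e⟩).trans hcard0
  let e : (A0 × A1) × Fin N → G := fun x => φ x.1 * h ^ (x.2 : ℕ)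
  have hsurj : Function.Surjective e := by
    intro g
    obtain ⟨_, ⟨a, rfl⟩, n, rfl⟩ := hall g
    refine ⟨(a, ⟨n % N, Nat.mod_lt _ hN0⟩), ?_⟩
    show φ a * h ^ (n % N) = _
    rw [← pow_eq_pow_mod n hN]
  refine ⟨Finite.of_surjective e hsurj, (Nat.card_le_card_of_surjective e hsurj).trans ?_⟩
  rw [Nat.card_prod, Nat.card_prod, Nat.card_fin]
  exact Nat.mul_le_mul_right _ (Nat.mul_le_mul hcard0 hcard1)

/-- The relations of the Borel group. -/
structure Rels [Fact p.Prime] (u h z : G) (N K b : ℕ) (m f0 f1 : (ZMod p)[X]) : Prop where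
  order : h ^ N = 1
  zp : z ^ p = 1
  zc : Commute z (orb h z 1)
  zb : orb h z b = z * orb h z 1
  zm : polyWord h z 1 m = 1
  zK : orb h z K = orb h z 2
  uz : ∀ i ∈ ({0, 1, 2, 3} : Finset ℕ), Commute u (orb h z i)
  up : u ^ p ∈ Subgroup.closure (Set.range (orb h z))
  uc : ∀ i ∈ ({1, K, 1 + K} : Finset ℕ),
    u * orb h u i * u⁻¹ * (orb h u i)⁻¹ ∈ Subgroup.closure (Set.range (orb h z))
  ub : (u * orb h u K)⁻¹ * orb h u (b * K : ℕ) ∈ Subgroup.closure (Set.range (orb h z))
  um : polyWord (h ^ K) u 1 m ∈ Subgroup.closure (Set.range (orb h z))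
  u2 : (polyWord h u K f0 * (h * polyWord h u K f1 * h⁻¹))⁻¹ * orb h u 2 ∈
    Subgroup.closure (Set.range (orb h z))

theorem borel_bound [Fact p.Prime] {u h z : G} (hgen : Subgroup.closure ({u, h} : Set G) = ⊤)
    {N K b : ℕ} {m f0 f1 : (ZMod p)[X]} (hm : m.Monic) (hN0 : 0 < N)
    (R : Rels u h z N K b m f0 f1) :
    Finite G ∧ Nat.card G ≤
      p ^ m.natDegree * p ^ m.natDegree * N * p ^ m.natDegree := by
  set Z := Subgroup.closure (Set.range (orb h z)) with hZ
  have hcommZ : ∀ i j : ℤ, Commute (orb h z i) (orb h z j) := fun i j => by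
    have := gcd_commute (h := h) (u := z) (a := 1) (b := b) (by exact_mod_cast R.zb)
      (by exact_mod_cast R.zc) i j
    simpa using this
  obtain ⟨hfinZ, hcardZ⟩ := orbit_small h z R.order hN0 R.zp hcommZ m hm R.zm
  have hZcomm : ∀ x ∈ Z, ∀ k : ℤ, Commute x (orb h z k) := by
    intro x hx k
    induction hx using Subgroup.closure_induction with
    | mem y hy => obtain ⟨i, rfl⟩ := hy; exact hcommZ i k
    | one => exact Commute.one_left _
    | mul _ _ _ _ a b => exact a.mul_left b
    | inv _ _ a => exact a.inv_left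
  have hzK : ∀ i : ℤ, orb h z (i + K) = orb h z (i + 2) := fun i => by
    rw [← conj_orb h z i K, R.zK, conj_orb]
  have hzKn : ∀ (n : ℕ) (i : ℤ), orb h z (i + n * K) = orb h z (i + n * 2) := by
    intro n
    induction n with
    | zero => simp
    | succ n ih =>
      intro i
      rw [show i + ((n + 1 : ℕ) : ℤ) * K = i + n * K + K by push_cast; ring, hzK,
        show i + (n : ℤ) * K + 2 = i + 2 + n * K by ring, ih]
      congr 1; push_cast; ring
  have htri : ∀ i : ℤ, orb h z (i + b) = orb h z i * orb h z (i + 1) := fun i => by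
    rw [← conj_orb h z i b, R.zb, ← conj_orb h z i 1]
    simp only [orb]; group
  -- `u` centralises the orbit of `z`
  have huz : ∀ i : ℤ, Commute u (orb h z i) := by
    have ζ : ∀ {x : G}, x ∈ Z → ∀ k : ℤ, Commute x (orb h z k) := fun hx k => hZcomm _ hx k
    set c := (u * orb h u K)⁻¹ * orb h u (b * K : ℕ) with hc
    have eb : orb h u (b * K : ℕ) = u * orb h u K * c := by rw [hc]; group
    have hnat : ∀ n : ℕ, Commute u (orb h z n) :=
      fun n => spread_two (P := fun i => Commute u (orb h z i)) (b := b)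
        (fun i hi hi1 hib => by
          show Commute _ _
          have e : orb h z (i + 2) =
              (orb h z (i + 1))⁻¹ * ((orb h z i * orb h z (i + 1))⁻¹ * orb h z (i + 2 * b)) := by
            rw [show i + 2 * (b : ℤ) = i + b + b by ring, htri (i + b), htri i,
              show i + (b : ℤ) + 1 = i + 1 + b by ring, htri (i + 1), show i + 1 + 1 = i + 2 by ring]
            group
          rw [e]
          exact hi1.inv_right.mul_right ((hi.mul_right hi1).inv_right.mul_right hib))
        (fun k hk hk2 => by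
          show Commute _ _
          have e : Commute (orb h u (b * K : ℕ)) (orb h z k) := by
            rw [eb]
            refine (hk.mul_left ?_).mul_left (ζ R.ub k)
            rw [commute_orb_iff]
            convert hk2 using 1
            rw [show k - (K : ℤ) = k - 2 - K + 2 by ring, ← hzK]
            congr 1; ring
          rw [commute_orb_iff] at e
          convert e using 1
          rw [show k - ((b * K : ℕ) : ℤ) = k - 2 * b - (b : ℤ) * K + b * 2 by push_cast; ring, ← hzKn]
          congr 1; ring)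
        (fun k hk2 hkb => by
          show Commute _ _
          have e : u = orb h u (b * K : ℕ) * c⁻¹ * (orb h u K)⁻¹ := by rw [eb]; group
          nth_rewrite 1 [e]
          refine (Commute.mul_left ?_ (ζ R.ub k).inv_left).mul_left (Commute.inv_left ?_) <;>
            rw [commute_orb_iff]
          · convert hkb using 1
            rw [show k - ((b * K : ℕ) : ℤ) = k - 2 * b - (b : ℤ) * K + b * 2 by push_cast; ring, ← hzKn]
            congr 1; ring
          · convert hk2 using 1
            rw [show k - (K : ℤ) = k - 2 - K + 2 by ring, ← hzK]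
            congr 1; ring)
        (by simpa using R.uz 0 (by simp)) (by simpa using R.uz 1 (by simp))
        (by simpa using R.uz 2 (by simp)) (by simpa using R.uz 3 (by simp)) n
    intro i
    obtain ⟨n, hn⟩ := exists_nat_orb R.order hN0 z i
    rw [hn]; exact hnat n
  have hnorm : Z.Normal := by
    rw [← Subgroup.normalizer_eq_top_iff, eq_top_iff, ← hgen, Subgroup.closure_le]
    have hmap : ∀ g : G, (∀ i, ∃ j, g * orb h z i * g⁻¹ = orb h z j) → (∀ j, ∃ i, g * orb h z i * g⁻¹ = orb h z j) →
        g ∈ (Subgroup.normalizer (Z : Set G)) := by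
      intro g h1 h2
      rw [Subgroup.mem_normalizer_iff_map_conj_eq, hZ, MonoidHom.map_closure]
      congr 1
      ext x
      constructor
      · rintro ⟨_, ⟨i, rfl⟩, rfl⟩
        obtain ⟨j, hj⟩ := h1 i
        exact ⟨j, hj.symm⟩
      · rintro ⟨j, rfl⟩
        obtain ⟨i, hi⟩ := h2 j
        exact ⟨_, ⟨i, rfl⟩, hi⟩
    rintro x (rfl | rfl)
    · refine hmap x (fun i => ⟨i, ?_⟩) (fun i => ⟨i, ?_⟩) <;>
        rw [(huz i).eq, mul_inv_cancel_right]
    · exact hmap x (fun i => ⟨1 + i, orb_succ _ _ _⟩)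
        (fun j => ⟨j - 1, by rw [orb_succ, add_sub_cancel]⟩)
  set π := QuotientGroup.mk' Z with hπ
  have hπ1 : ∀ {x : G}, x ∈ Z → π x = 1 := fun hx => (QuotientGroup.eq_one_iff _).2 hx
  have hgen' : Subgroup.closure ({π u, π h} : Set (G ⧸ Z)) = ⊤ := by
    rw [show ({π u, π h} : Set (G ⧸ Z)) = π '' {u, h} by simp [Set.image_insert_eq],
      ← MonoidHom.map_closure, hgen, Subgroup.map_top_of_surjective π (QuotientGroup.mk'_surjective Z)]
  have hcm : ∀ i ∈ ({1, K, 1 + K} : Finset ℕ), Commute (π u) (orb (π h) (π u) i) := fun i hi => by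
    have := hπ1 (R.uc i hi)
    rw [map_mul, map_mul, map_mul, map_inv, map_inv, map_orb, mul_inv_eq_one, mul_inv_eq_iff_eq_mul] at this
    exact this
  obtain ⟨hfinQ, hcardQ⟩ := two_lines (p := p) (u := π u) (h := π h) hgen' (N := N) (K := K) (b := b)
    (by rw [← map_pow, R.order, map_one]) hN0 (by rw [← map_pow, hπ1 R.up]) (hcm K (by simp))
    (by
      have := hπ1 R.ub
      rw [map_mul, map_inv, inv_mul_eq_one, map_mul, map_orb, map_orb] at this
      rw [← Nat.cast_mul]; exact this.symm)
    (by omega) m hm (by rw [← map_pow, ← map_polyWord, hπ1 R.um]) (hcm 1 (by simp))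
    (by exact_mod_cast hcm (1 + K) (by simp)) f0 f1 (by
      have := hπ1 R.u2
      rw [map_mul, map_inv, inv_mul_eq_one, map_mul, map_mul, map_mul, map_inv, map_polyWord,
        map_polyWord, map_orb] at this
      exact this.symm)
  have hfinG : Finite G := Finite.of_equiv _ (Subgroup.groupEquivQuotientProdSubgroup (s := Z)).symm
  refine ⟨hfinG, ?_⟩
  rw [Subgroup.card_eq_card_quotient_mul_card_subgroup Z]
  exact Nat.mul_le_mul hcardQ hcardZ

end Cfsg.Agent.BoundedPres.U3
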