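import Cfsg.Agent.Lib.BoundedPres.U3.Assemble

/-!
# A presentation of `SU₃(3)`

For `q = 3` the triangle `ν^b = 1 + ν` degenerates and the Borel group is bounded directly.
-/

set_option autoImplicit false

namespace Cfsg.Agent.BoundedPres.U3

open Polynomial Cfsg.Agent.SL2Presentation
open Cfsg.Agent.Forms (qEnd qEnd_apply qEnd_qEnd)

/-- The Borel group of `SU₃(3)`. -/
theorem small_bound {G : Type*} [Group G] {u h z : G}
    (hgen : Subgroup.closure ({u, h} : Set G) = ⊤) (hN : h ^ 8 = 1) (hz3 : z ^ 3 = 1)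
    (hhz : h * z * h⁻¹ * z = 1) (huz : Commute u z)
    (hzdef : z = u * (h * u * h⁻¹) * u⁻¹ * (h * u * h⁻¹)⁻¹) (hup : u ^ 3 ∈ Subgroup.zpowers z)
    {a b : ℕ} (h2 : (u ^ a * (h * u * h⁻¹) ^ b)⁻¹ * (h * (h * u * h⁻¹) * h⁻¹) ∈ Subgroup.zpowers z) :
    Finite G ∧ Nat.card G ≤ 216 := by
  set Z := Subgroup.zpowers z with hZ
  have hconj : h * z * h⁻¹ = z⁻¹ := eq_inv_of_mul_eq_one_left hhz
  have hfinZ : Finite Z := (isOfFinOrder_iff_pow_eq_one.2 ⟨3, by norm_num, hz3⟩).finite_zpowers.to_subtype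
  have hcardZ : Nat.card Z ≤ 3 := by
    rw [Nat.card_zpowers]
    exact Nat.le_of_dvd (by norm_num) (orderOf_dvd_of_pow_eq_one hz3)
  have hnorm : Z.Normal := by
    rw [← Subgroup.normalizer_eq_top_iff, eq_top_iff, ← hgen, Subgroup.closure_le]
    rintro x (rfl | rfl) <;> show x ∈ Subgroup.normalizer (Z : Set G) <;>
      rw [Subgroup.mem_normalizer_iff_map_conj_eq, hZ, MonoidHom.map_zpowers]
    · congr 1
      show x * z * x⁻¹ = z
      rw [huz.eq, mul_inv_cancel_right]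
    · show Subgroup.zpowers (x * z * x⁻¹) = _
      rw [hconj, Subgroup.zpowers_inv]
  set π := QuotientGroup.mk' Z with hπ
  have hπ1 : ∀ {x : G}, x ∈ Z → π x = 1 := fun hx => (QuotientGroup.eq_one_iff _).2 hx
  have hc : Commute (π u) (π (h * u * h⁻¹)) := by
    have := hπ1 (Subgroup.mem_zpowers z)
    nth_rewrite 1 [hzdef] at this
    rwa [map_mul, map_mul, map_inv, map_inv, map_mul, mul_inv_eq_one, mul_inv_eq_iff_eq_mul] at this
  have hu3 : π u ^ 3 = 1 := by rw [← map_pow, hπ1 hup]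
  have hv3 : π (h * u * h⁻¹) ^ 3 = 1 := by
    rw [← map_pow, conj_pow]
    simp [map_mul, hu3]
  let e : Fin 3 × Fin 3 × Fin 8 → G ⧸ Z :=
    fun x => π u ^ (x.1 : ℕ) * π (h * u * h⁻¹) ^ (x.2.1 : ℕ) * π h ^ (x.2.2 : ℕ)
  have hh8 : π h ^ 8 = 1 := by rw [← map_pow, hN, map_one]
  have hmem : ∀ i j l : ℕ, π u ^ i * π (h * u * h⁻¹) ^ j * π h ^ l ∈ Set.range e := fun i j l =>
    ⟨(⟨i % 3, Nat.mod_lt _ (by norm_num)⟩, ⟨j % 3, Nat.mod_lt _ (by norm_num)⟩,
      ⟨l % 8, Nat.mod_lt _ (by norm_num)⟩), by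
      simp only [e, ← pow_eq_pow_mod _ hu3, ← pow_eq_pow_mod _ hv3, ← pow_eq_pow_mod _ hh8]⟩
  have hw : π h * π (h * u * h⁻¹) * (π h)⁻¹ = π u ^ a * π (h * u * h⁻¹) ^ b := by
    have := hπ1 h2
    rw [map_mul, map_inv, inv_mul_eq_one, map_mul, map_mul, map_mul, map_inv, map_pow, map_pow] at this
    exact this.symm
  have hall : ∀ g : G, ∀ s ∈ Set.range e, π g * s ∈ Set.range e := by
    intro g
    have hg : g ∈ Subgroup.closure ({u, h} : Set G) := hgen ▸ Subgroup.mem_top g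
    have hpow : ∀ (x : G ⧸ Z), (∀ s ∈ Set.range e, x * s ∈ Set.range e) →
        ∀ n : ℕ, ∀ s ∈ Set.range e, x ^ n * s ∈ Set.range e := by
      intro x hx n
      induction n with
      | zero => intro s hs; simpa using hs
      | succ n ih => intro s hs; rw [pow_succ', mul_assoc]; exact hx _ (ih s hs)
    have hu' : ∀ s ∈ Set.range e, π u * s ∈ Set.range e := by
      rintro _ ⟨⟨i, j, l⟩, rfl⟩
      show π u * (π u ^ (i : ℕ) * π (h * u * h⁻¹) ^ (j : ℕ) * π h ^ (l : ℕ)) ∈ _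
      rw [← mul_assoc, ← mul_assoc, ← pow_succ']
      exact hmem _ _ _
    have hh' : ∀ s ∈ Set.range e, π h * s ∈ Set.range e := by
      rintro _ ⟨⟨i, j, l⟩, rfl⟩
      show π h * (π u ^ (i : ℕ) * π (h * u * h⁻¹) ^ (j : ℕ) * π h ^ (l : ℕ)) ∈ _
      have e1 : π h * (π u ^ (i : ℕ) * π (h * u * h⁻¹) ^ (j : ℕ) * π h ^ (l : ℕ)) =
          (π h * π u * (π h)⁻¹) ^ (i : ℕ) * (π h * π (h * u * h⁻¹) * (π h)⁻¹) ^ (j : ℕ) *
            (π h * π h ^ (l : ℕ)) := by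
        rw [conj_pow, conj_pow]; group
      rw [e1, hw, ← map_inv, ← map_mul, ← map_mul, ← pow_succ', (hc.pow_pow a b).mul_pow, ← pow_mul,
        ← pow_mul, ← mul_assoc (π (h * u * h⁻¹) ^ (i : ℕ)), ((hc.pow_pow (a * j) (i : ℕ))).symm.eq,
        mul_assoc (π u ^ _), ← pow_add]
      exact hmem _ _ _
    induction hg using Subgroup.closure_induction with
    | mem x hx => rcases hx with rfl | rfl; exacts [hu', hh']
    | one => intro s hs; simpa using hs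
    | mul x y _ _ ihx ihy => intro s hs; rw [map_mul, mul_assoc]; exact ihx _ (ihy s hs)
    | inv x _ ih =>
      intro s hs
      have himg : (fun t => π x * t) '' Set.range e = Set.range e :=
        Set.eq_of_subset_of_ncard_le (Set.image_subset_iff.2 fun t ht => ih t ht)
          (le_of_eq (Set.ncard_image_of_injective _ (mul_right_injective _)).symm) (Set.finite_range e)
      obtain ⟨t, ht, rfl⟩ : s ∈ (fun t => π x * t) '' Set.range e := himg.symm ▸ hs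
      rw [map_inv]
      simpa using ht
  have hsurj : Function.Surjective e := fun y => by
    obtain ⟨g, rfl⟩ := QuotientGroup.mk'_surjective Z y
    have := hall g 1 (by simpa using hmem 0 0 0)
    rwa [mul_one] at this
  have : Finite (G ⧸ Z) := Finite.of_surjective e hsurj
  refine ⟨Finite.of_equiv _ (Subgroup.groupEquivQuotientProdSubgroup (s := Z)).symm, ?_⟩
  rw [Subgroup.card_eq_card_quotient_mul_card_subgroup Z]
  calc Nat.card (G ⧸ Z) * Nat.card Z ≤ Nat.card (Fin 3 × Fin 3 × Fin 8) * 3 :=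
        Nat.mul_le_mul (Nat.card_le_card_of_surjective e hsurj) hcardZ
    _ = 216 := by simp

theorem su_three_tup {F : Type*} [Field F] [Fintype F] (hF : Fintype.card F = 3 ^ 2) :
    ∃ g : Fin 3 → ↥(Cfsg.SU 3 F 3), Short.Tup g 10 := by
  classical
  obtain ⟨C⟩ := exists_ctx hF
  obtain ⟨p, hchar⟩ := CharP.exists F
  have := hchar
  obtain ⟨d, hp, hd⟩ := FiniteField.card F p
  have hp3 : p = 3 := by
    have : p ∣ 3 ^ 2 := hF ▸ hd ▸ dvd_pow_self p d.pos.ne'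
    exact (Nat.prime_dvd_prime_iff_eq hp Nat.prime_three).1 (hp.dvd_of_dvd_pow this)
  subst hp3
  have := Fact.mk hp
  let : Algebra (ZMod 3) F := ZMod.algebra F 3
  obtain ⟨ω, hω⟩ := IsCyclic.exists_generator (α := Fˣ)
  let S : Sys C := ⟨ω, hω, le_rfl⟩
  have hν : C.nu ω = -1 := by
    have h2 : ω ^ (2 * (3 + 1)) = 1 := by
      rw [show 2 * (3 + 1) = 3 ^ 2 - 1 by norm_num, ← C.orderOf_gen hω, pow_orderOf_eq_one]
    have h4 : C.nu ω * C.nu ω = 1 := by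
      rw [C.nu_eq, ← Units.val_mul, ← pow_add, ← two_mul, h2, Units.val_one]
    refine ((mul_self_eq_one_iff.1 h4).resolve_left fun e => ?_)
    rw [C.nu_eq, Units.val_eq_one] at e
    have := Nat.le_of_dvd (by norm_num) (orderOf_dvd_of_pow_eq_one e)
    rw [C.orderOf_gen hω] at this
    norm_num at this
  have hfix : ∀ x : F, qEnd C.card x = x → ∃ n : ℕ, (n : F) = x := by
    intro x hx
    by_cases h0 : x = 0
    · exact ⟨0, by simp [h0]⟩
    obtain ⟨n, rfl⟩ := C.exists_nu_pow hω hx h0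
    refine ⟨2 ^ n, ?_⟩
    rw [hν, Nat.cast_pow, show ((2 : ℕ) : F) = -1 by
      rw [eq_neg_iff_add_eq_zero, ← Nat.cast_one, ← Nat.cast_add]; exact CharP.cast_eq_zero F 3]
  obtain ⟨c0, c1, hc0, hc1, hsplit⟩ := C.exists_split hω le_rfl (C.mu ω ^ 2)
  obtain ⟨a, ha⟩ := hfix c0 hc0
  obtain ⟨b, hb⟩ := hfix c1 hc1
  obtain ⟨y1, hy1, hy1'⟩ := pow_uM C S.x0 3
  obtain ⟨r1, hr1, R1⟩ := S.exists_mod 3 (gU ^ 3) y1 (by rw [map_pow, S.MU, hy1])
    (by rw [hy1'.1, CharP.cast_eq_zero, zero_mul])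
  obtain ⟨y2, hy2, hy2', -⟩ := pow_uM C S.x0 a
  obtain ⟨y3, hy3, hy3', -⟩ := pow_uM C (C.hact (ω ^ 1) S.x0) b
  obtain ⟨r2, hr2, R2⟩ := S.exists_mod 3
    ((gU ^ a * orb gH gU (1 : ℕ) ^ b)⁻¹ * orb gH gU (2 : ℕ))
    (C.pmul (C.pinv (C.pmul y2 y3)) (C.hact (ω ^ 2) S.x0))
    (by rw [map_mul, map_inv, map_mul, map_pow, map_pow, S.MU, S.Morb gU S.x0 1 S.MU, hy2, hy3,
      S.Morb gU S.x0 2 S.MU, C.uM_mul, C.uM_inv, C.uM_mul]) (by
      show -(y2.1.1 + y3.1.1) + (C.hact (ω ^ 2) S.x0).1.1 = 0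
      rw [hy2', hy3', (C.hact_pow ω 1 S.x0).1, (C.hact_pow ω 2 S.x0).1, S.x0_fst, ha, hb, hsplit]
      ring)
  set L : List FG := [gH ^ 8, Sys.zW ^ 3, orb gH Sys.zW (1 : ℕ) * Sys.zW,
    gU * Sys.zW * (Sys.zW * gU)⁻¹, r1, r2] with hL
  have hrel : ∀ w ∈ L, S.M w = 1 := by
    intro w hw
    simp only [hL, List.mem_cons, List.not_mem_nil, or_false] at hw
    rcases hw with rfl | rfl | rfl | rfl | rfl | rfl
    · rw [map_pow, S.MH, ← map_pow, show 8 = 3 ^ 2 - 1 by norm_num, ← C.orderOf_gen hω,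
        pow_orderOf_eq_one, map_one]
    · obtain ⟨y, hy, e1, e2⟩ := pow_uM C S.z0 3
      rw [map_pow, S.MZ, hy, ← C.uM_zero]
      congr 1
      refine Subtype.ext (Prod.ext ?_ ?_)
      · rw [e1, CharP.cast_eq_zero, zero_mul]; rfl
      · rw [e2 rfl, CharP.cast_eq_zero, zero_mul]; rfl
    · rw [map_mul, S.Morb Sys.zW S.z0 1 S.MZ, S.MZ, C.uM_mul, ← C.uM_zero]
      congr 1
      refine Subtype.ext (Prod.ext ?_ ?_)
      · show (C.hact (ω ^ 1) S.z0).1.1 + S.z0.1.1 = 0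
        rw [S.hza, S.z0_fst, add_zero]
      · show (C.hact (ω ^ 1) S.z0).1.2 + S.z0.1.2 - (C.hact (ω ^ 1) S.z0).1.1 * qEnd C.card S.z0.1.1 = 0
        rw [(C.hact_pow ω 1 S.z0).2, S.z0_fst, map_zero, hν]
        ring
    · simp only [map_mul, map_inv, S.MU, S.MZ]
      rw [mul_inv_eq_one, C.uM_mul, C.uM_mul]
      congr 1
      refine Subtype.ext (Prod.ext ?_ ?_)
      · exact add_comm _ _
      · simp only [Ctx.pmul, S.z0_fst, map_zero]; ring
    · exact hr1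
    · exact hr2
  refine ⟨_, S.assemble 3 L hrel fun Q _ φ hφ => ?_⟩
  set H := Subgroup.closure ({φ gU, φ gH} : Set Q) with hH
  have huH : φ gU ∈ H := Subgroup.subset_closure (by simp)
  have hhH : φ gH ∈ H := Subgroup.subset_closure (by simp)
  have hzH : φ Sys.zW ∈ H := Sys.zW_mem φ
  have hgenH : Subgroup.closure ({⟨φ gU, huH⟩, ⟨φ gH, hhH⟩} : Set H) = ⊤ := by
    rw [eq_top_iff]
    rintro ⟨x, hx⟩ -
    rw [← Subgroup.mem_map_iff_mem H.subtype_injective, MonoidHom.map_closure]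
    simpa [Set.image_pair] using hx
  have ho1 : ∀ x : Q, orb (φ gH) x 1 = φ gH * x * (φ gH)⁻¹ := fun x => by simp [orb]
  have ho2 : ∀ x : Q, orb (φ gH) x 2 = φ gH * (φ gH * x * (φ gH)⁻¹) * (φ gH)⁻¹ := fun x => by
    rw [show (2 : ℤ) = 1 + 1 from rfl, ← orb_succ, ho1]
  have h8 : φ gH ^ 8 = 1 := by rw [← map_pow]; exact hφ _ (by simp [hL])
  have hz3 : φ Sys.zW ^ 3 = 1 := by rw [← map_pow]; exact hφ _ (by simp [hL])
  have hhz : φ gH * φ Sys.zW * (φ gH)⁻¹ * φ Sys.zW = 1 := by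
    have := hφ (orb gH Sys.zW (1 : ℕ) * Sys.zW) (by simp [hL])
    rwa [map_mul, map_orb, Nat.cast_one, ho1] at this
  have huz : Commute (φ gU) (φ Sys.zW) := by
    have := hφ (gU * Sys.zW * (Sys.zW * gU)⁻¹) (by simp [hL])
    rwa [map_mul, map_inv, mul_inv_eq_one, map_mul, map_mul] at this
  have hZle : Subgroup.closure (Set.range (orb (φ gH) (φ Sys.zW))) ≤ Subgroup.zpowers (φ Sys.zW) := by
    rw [Subgroup.closure_le]
    rintro _ ⟨i, rfl⟩
    obtain ⟨n, hn⟩ := exists_nat_orb h8 (by norm_num) (φ Sys.zW) i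
    rw [hn, SetLike.mem_coe]
    refine orb_mem_of_conj_invariant _ _ (Subgroup.mem_zpowers _) (fun x hx => ?_) n
    obtain ⟨j, rfl⟩ := Subgroup.mem_zpowers_iff.1 hx
    rw [← conj_zpow, eq_inv_of_mul_eq_one_left hhz]
    exact zpow_mem (inv_mem (Subgroup.mem_zpowers _)) _
  have inH : ∀ {x : H}, (x : Q) ∈ Subgroup.zpowers (φ Sys.zW) →
      x ∈ Subgroup.zpowers (⟨φ Sys.zW, hzH⟩ : H) := by
    intro x hx
    obtain ⟨j, hj⟩ := Subgroup.mem_zpowers_iff.1 hx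
    exact Subgroup.mem_zpowers_iff.2 ⟨j, Subtype.ext (by simpa using hj)⟩
  obtain ⟨hfin, hcard⟩ := small_bound (u := (⟨φ gU, huH⟩ : H)) (h := ⟨φ gH, hhH⟩) (z := ⟨φ Sys.zW, hzH⟩)
    hgenH (Subtype.ext (by simpa using h8)) (Subtype.ext (by simpa using hz3))
    (Subtype.ext (by simpa using hhz)) (Subtype.ext (by simpa using huz.eq))
    (Subtype.ext (by
      show φ Sys.zW = _
      simp [Sys.zW, map_orb, ho1]))
    (inH (hZle (by simpa using R1 _ φ (hφ _ (by simp [hL])))))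
    (a := a) (b := b) (inH (hZle (by
      have := R2 _ φ (hφ _ (by simp [hL]))
      simp only [map_mul, map_inv, map_pow, map_orb, Nat.cast_one, Nat.cast_ofNat, ho1, ho2] at this
      simpa using this)))
  refine ⟨hfin, hcard.trans ?_⟩
  rw [C.card_borel]
  norm_num

end Cfsg.Agent.BoundedPres.U3
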