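import Cfsg.Agent.Lib.BoundedPres.U3.Main
import Cfsg.Agent.Lib.BoundedPres.U3.Three
import Cfsg.Agent.Lib.BoundedPres.PSL
import Cfsg.Agent.Lib.TwoGen.UnitKinds

/-!
# `PSU₃(q)` on two generators
-/

set_option autoImplicit false

namespace Cfsg.Agent.BoundedPres.U3

/-- A presentation of `PSU_n(q)` moves to two generators. -/
theorem psu_two_gen {F : Type*} [Field F] [Fintype F] {q n r : ℕ} (hF : Fintype.card F = q ^ 2)
    (hn : 3 ≤ n) (h32 : n = 3 → q ≠ 2) (h : Pres (Cfsg.PSU n F q) r) :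
    ∃ rels : Finset (FreeGroup (Fin 2)), rels.card ≤ r + 2 ∧
      Nonempty (PresentedGroup (↑rels : Set (FreeGroup (Fin 2))) ≃* Cfsg.PSU n F q) := by
  obtain ⟨a, b, hab⟩ := TwoGen.exists_pair_su hF hn h32
  obtain ⟨rels, hr, e, -⟩ := h.twoGen
    (closure_pair_image _ (QuotientGroup.mk'_surjective (Subgroup.center ↥(Cfsg.SU n F q))) hab)
  exact ⟨rels, hr, ⟨e⟩⟩

theorem center_cyclic {F : Type*} [Field F] [Fintype F] {q : ℕ} (hF : Fintype.card F = q ^ 2) :
    IsCyclic (Subgroup.center ↥(Cfsg.SU 3 F q)) := by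
  have h := Forms.card_center_SU hF (n := 3) (by norm_num)
  rcases (Nat.dvd_prime Nat.prime_three).1 (Nat.gcd_dvd_left 3 (q + 1)) with h1 | h1
  · have : Subsingleton (Subgroup.center ↥(Cfsg.SU 3 F q)) :=
      (Nat.card_eq_one_iff_unique.1 (h.trans h1)).1
    exact isCyclic_of_subsingleton
  · have := Fact.mk Nat.prime_three
    exact isCyclic_of_prime_card (p := 3) (h.trans h1)

theorem psu_three {F : Type*} [Field F] [Fintype F] {q : ℕ} (hF : Fintype.card F = q ^ 2) (h2 : q ≠ 2) :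
    ∃ rels : Finset (FreeGroup (Fin 2)), rels.card ≤ 23 ∧
      Nonempty (PresentedGroup (↑rels : Set (FreeGroup (Fin 2))) ≃* Cfsg.PSU 3 F q) := by
  have h1 := Forms.one_lt_q hF
  have hsu : Pres ↥(Cfsg.SU 3 F q) 20 := by
    rcases Nat.lt_or_ge q 4 with h | h
    · obtain rfl : q = 3 := by omega
      obtain ⟨g, hg⟩ := su_three_tup hF
      exact hg.pres.mono (by norm_num)
    · obtain ⟨g, hg⟩ := su_tup hF h
      exact hg.pres
  obtain ⟨z, hz⟩ := exists_normalClosure_center (center_cyclic hF)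
  exact psu_two_gen hF le_rfl (fun _ => h2) (hsu.quotient _ z hz)

end Cfsg.Agent.BoundedPres.U3
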